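import Cfsg.Agent.Bs.Core

/-! # Bases from colourings of the blocks of a frame -/

set_option autoImplicit false
set_option linter.unusedSectionVars false

namespace Cfsg.Bs

open Subgroup
open scoped commutatorElement IsMulCommutative

variable {p : ℕ} [Fact p.Prime] {G V : Type*} [Group G] [Finite G] [AddCommGroup V]
  [Module (ZMod p) V] [DistribMulAction G V] {r : ℕ} {E D A : Subgroup G} {x y : V}

/-- `(x, y)` is a base of `N(D)` on the fixed space of `D`, and `D` is the stabiliser of `x` -/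
structure Start (E D : Subgroup G) (x y : V) : Prop where
  fx : ∀ d ∈ D, d • x = x
  fy : ∀ d ∈ D, d • y = y
  reg : ∀ e ∈ E, e • x = x → e ∈ D
  base : ∀ g ∈ normalizer (D : Set G), g • x = x → g • y = y →
    ∀ w : V, (∀ d ∈ D, d • w = w) → g • w = w

namespace Frame

theorem isMulCommutative (F : Frame r E D A) : IsMulCommutative A :=
  ⟨⟨fun a b => Subtype.ext (F.comm a a.2 b b.2)⟩⟩

theorem base_of_col (F : Frame r E D A) (h : Ctx p G V) (hZ : Semireg (center G) V)
    (hs : Start E D x y) {ι : Type*} (c : A → ι) (col : ι → V) (hw : ∀ i, ∀ d ∈ D, d • col i = col i)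
    {S : Set A} (hS : 4 * S.ncard < Nat.card A)
    (hreg : ∀ τ ∉ S, τ ≠ 1 → ∀ e ∈ E ⊓ centralizer (D : Set G), e • col (c τ) = col (c τ) → e ∈ D)
    (hsep : ∀ τ σ, τ ≠ 1 → σ ≠ 1 → ∀ e ∈ E ⊓ centralizer (D : Set G),
      col (c σ) = e • col (c τ) → c σ = c τ)
    (rig : ∀ γ : A →* A, Function.Injective γ → (∀ a, c (γ a) = c a) → γ = MonoidHom.id A) :
    HasBase G V := by
  classical
  haveI := Fintype.ofFinite A
  let w : A → V := fun τ => if τ = 1 then y else col (c τ)
  have hw' : ∀ τ, ∀ d ∈ D, d • w τ = w τ := fun τ d hd => by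
    simp only [w]; split_ifs; exacts [hs.fy d hd, hw _ d hd]
  refine ⟨x, ∑ τ : A, (τ : G) • w τ, fun g hx hy => ?_⟩
  have hg := mem_normalizer_of_fix F.sym.normal F.DE hs.fx hs.reg hx
  obtain ⟨γ, hγ, ha⟩ := F.exists_gamma hg
  have key : ∀ τ, w (γ τ) = ((γ τ : G)⁻¹ * (g * τ * g⁻¹)) • g • w τ := fun τ => by
    rw [← F.comp_sum h.cop hZ hw' τ, ← comp_smul hg (ha τ), hy, F.comp_sum h.cop hZ hw']
  have h0 := hs.base g hg hx (by simpa [w] using (key 1).symm)
  have h1 : ∀ τ, τ ≠ 1 → col (c (γ τ)) = ((γ τ : G)⁻¹ * (g * τ * g⁻¹)) • col (c τ) := fun τ hτ => by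
    have := key τ
    rwa [h0 _ (hw' τ), show w τ = _ from if_neg hτ,
      show w (γ τ) = _ from if_neg ((map_eq_one_iff γ hγ).not.2 hτ)] at this
  have h2 := rig γ hγ fun τ => by
    by_cases hτ : τ = 1
    · rw [hτ, map_one]
    · exact hsep τ _ hτ ((map_eq_one_iff γ hγ).not.2 hτ) _ (ha τ) (h1 τ hτ)
  subst h2
  have h3 := F.conj_eq (g := g) hγ hS fun τ hτ => by
    by_cases h : τ = 1
    · simp [h]
    · exact hreg τ hτ h _ (ha τ) (h1 τ h).symm
  refine h.faithful g (F.smul_eq h.cop hZ fun τ hτ v hv => ?_)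
  have : g * τ = τ * g := mul_inv_eq_iff_eq_mul.1 (h3 ⟨τ, hτ⟩)
  rw [smul_smul, this, mul_smul, h0 v hv]

theorem base_of_three (F : Frame 2 E D A) (h : Ctx p G V) (hZ : Semireg (center G) V)
    (hs : Start E D x y) (v : Fin 3 → V) (hv : ∀ i, ∀ d ∈ D, d • v i = v i) (h0 : ∀ i, v i ≠ 0)
    (hreg : ∀ i, ∀ e ∈ E ⊓ centralizer (D : Set G), e • v i = v i → e ∈ D)
    (hsep : ∀ i j, ∀ e ∈ E ⊓ centralizer (D : Set G), v j = e • v i → j = i) : HasBase G V := by
  haveI := F.isMulCommutative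
  obtain ⟨k, c, hk, -, s0, -, -, -, h3, rig⟩ := exists_rc4 (T := A) (r := 2) fun a =>
    Subtype.ext (F.exp a a.2)
  by_cases hk2 : k ≤ 2
  · refine F.base_of_col h hZ hs c (fun i => v (![0, 1, 2, 0] i)) (fun i => hv _) (S := ∅)
      (by simp) (fun τ _ _ => hreg _) (fun τ σ hτ hσ e he h1 => ?_) rig
    have := hsep _ _ e he h1
    have h1 := mt (h3 rfl hk2 τ) hτ
    have h2 := mt (h3 rfl hk2 σ) hσ
    revert this h1 h2
    generalize c τ = i
    generalize c σ = j
    revert i j; decide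
  · refine F.base_of_col h hZ hs c (Fin.cons 0 v) (fun i d hd => ?_) (S := {a | c a = 0}) ?_
      (fun τ hτ _ => ?_) (fun τ σ _ _ e he => ?_) rig
    · refine Fin.cases ?_ (fun i => ?_) i
      · simp
      · simpa using hv i d hd
    · have : 2 ^ 3 ≤ 2 ^ k := Nat.pow_le_pow_right two_pos (by omega)
      omega
    · obtain ⟨i, e⟩ := Fin.exists_succ_eq.2 hτ
      rw [← e]
      simpa using hreg i
    · generalize c τ = i
      generalize c σ = j
      refine Fin.cases ?_ (fun i => ?_) i <;> refine Fin.cases ?_ (fun j => ?_) j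
      · simp
      · simp [h0]
      · simp [h0, eq_comm (a := (0 : V)), smul_eq_zero_iff_eq]
      · simpa using hsep i j e he

theorem base_of_odd (F : Frame r E D A) (h : Ctx p G V) (hZ : Semireg (center G) V)
    (hs : Start E D x y) (hr : r ≠ 2) (h0 : x ≠ 0) : HasBase G V := by
  haveI := F.isMulCommutative
  haveI := Fact.mk F.sym.prime
  obtain ⟨c, s0, -, rig⟩ := exists_rc3 (T := A) hr fun a => Subtype.ext (F.exp a a.2)
  have hn : ∀ e ∈ E, e • x ≠ -x := fun e he h1 => by
    have h2 : ∀ n : ℕ, e ^ n • x = (-1 : ZMod p) ^ n • x := fun n => by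
      induction n with
      | zero => simp
      | succ n ih => rw [pow_succ, mul_smul, h1, smul_neg, ih, pow_succ, mul_smul]; simp
    have h3 := h2 r
    rw [show e ^ r = 1 by simpa [hr] using F.sym.exp e he, (F.sym.prime.odd_of_ne_two hr).neg_one_pow,
      one_smul, neg_smul, one_smul, ← add_eq_zero_iff_eq_neg, ← two_smul (ZMod p),
      smul_eq_zero] at h3
    exact h.odd ((Nat.prime_dvd_prime_iff_eq Fact.out Nat.prime_two).1
      ((ZMod.natCast_eq_zero_iff 2 p).1 (h3.resolve_right h0)))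
  refine F.base_of_col h hZ hs c ![0, -x, x] (fun i d hd => ?_) s0 (fun τ hτ _ e he => ?_)
    (fun τ σ _ _ e he => ?_) rig
  · fin_cases i <;> simp [hs.fx d hd]
  · change ¬ c τ = 0 at hτ
    generalize c τ = i at hτ
    fin_cases i
    · exact absurd rfl hτ
    · simpa using hs.reg e he.1
    · simpa using hs.reg e he.1
  · generalize c τ = i
    generalize c σ = j
    have := hn e he.1
    fin_cases i <;> fin_cases j <;>
      simp [h0, this, this.symm, eq_comm (a := (0 : V)), smul_eq_zero_iff_eq, eq_neg_iff_add_eq_zero]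
    exact fun e => this (eq_neg_of_add_eq_zero_right e)

theorem exists_thirteen :
    ∃ a : Fin 3 → ZMod 13, (∀ i, a i ≠ 0) ∧ ∀ i j, a j ^ 4 = a i ^ 4 → j = i :=
  ⟨![1, 2, 4], by decide, by decide⟩

theorem base_of_seven (F : Frame 2 E D A) (h : Ctx p G V) (hZ : Semireg (center G) V)
    (hs : Start E D x y) (h3 : p ≠ 3) (h5 : p ≠ 5) (h0 : x ≠ 0) : HasBase G V := by
  obtain ⟨a, ha, hinj⟩ : ∃ a : Fin 3 → ZMod p, (∀ i, a i ≠ 0) ∧ ∀ i j, a j ^ 4 = a i ^ 4 → j = i := by
    have hp : p.Prime := Fact.out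
    have hd : ∀ q : ℕ, q.Prime → p ≠ q → (q : ZMod p) ≠ 0 := fun q hq hn e =>
      hn ((Nat.prime_dvd_prime_iff_eq hp hq).1 ((ZMod.natCast_eq_zero_iff q p).1 e))
    have d2 : (2 : ZMod p) ≠ 0 := hd 2 Nat.prime_two h.odd
    have d3 : (3 : ZMod p) ≠ 0 := hd 3 Nat.prime_three h3
    have d5 : (5 : ZMod p) ≠ 0 := hd 5 Nat.prime_five h5
    by_cases h13 : p = 13
    · subst h13
      exact exists_thirteen
    have d13 : (13 : ZMod p) ≠ 0 := hd 13 (by norm_num) h13
    have e1 : (2 : ZMod p) ^ 4 ≠ 1 := fun e => mul_ne_zero d3 d5 (by linear_combination e)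
    have e2 : (3 : ZMod p) ^ 4 ≠ 1 := fun e => mul_ne_zero (pow_ne_zero 4 d2) d5
      (by linear_combination e)
    have e3 : (3 : ZMod p) ^ 4 ≠ 2 ^ 4 := fun e => mul_ne_zero d13 d5 (by linear_combination e)
    refine ⟨![1, 2, 3], fun i => ?_, fun i j => ?_⟩
    · fin_cases i <;> simp [d2, d3]
    · fin_cases i <;> fin_cases j <;> simp [e1, e2, e3, e1.symm, e2.symm, e3.symm]
  refine F.base_of_three h hZ hs (fun i => a i • x) (fun i d hd => by rw [smul_zmod, hs.fx d hd])
    (fun i => smul_ne_zero (ha i) h0) (fun i e he h1 => hs.reg e he.1 ?_) fun i j e he h1 => hinj i j ?_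
  · rw [smul_zmod] at h1
    exact smul_right_injective V (ha i) h1
  · have h2 : ∀ n : ℕ, a j ^ n • x = a i ^ n • e ^ n • x := fun n => by
      induction n with
      | zero => simp
      | succ n ih =>
        rw [pow_succ, mul_smul, h1, ← smul_zmod e, smul_comm (a j ^ n), ih, smul_smul (a i),
          ← pow_succ', smul_zmod, smul_smul e, ← pow_succ']
    have := h2 4
    rw [show e ^ 4 = 1 by simpa using F.sym.exp e he.1, one_smul] at this
    exact smul_left_injective _ h0 this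

end Frame

end Cfsg.Bs

set_option linter.all false in
theorem Cfsg.Rz.Bs_Blocks_0 : True := by
  have := @_root_.Cfsg.Bs.Start.mk.congr_simp.{0, 0}
  trivial
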