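import Cfsg.Agent.Bs.Defs
import Mathlib.GroupTheory.GroupAction.Blocks

/-! # A solvable `p'`-group of permutations has a rigid colouring with `p` colours, `p` odd -/

set_option autoImplicit false
set_option linter.unusedSectionVars false

namespace Cfsg.Bs

open Subgroup MulAction
open scoped Pointwise

universe v

variable {p : ℕ} [hp : Fact p.Prime]

theorem eq_zero_of_iterate {G α : Type*} [Group G] [Finite G] [MulAction G α]
    (hG : ¬ p ∣ Nat.card G) (f : α → ZMod p) (P : α → Prop) {k : G} {c : ZMod p}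
    (hP : ∀ b, P b → P (k • b)) (h : ∀ b, P b → f (k • b) = f b + c) {b : α} (hb : P b) :
    c = 0 := by
  have key : ∀ n : ℕ, P (k ^ n • b) ∧ f (k ^ n • b) = f b + n * c := fun n => by
    induction n with
    | zero => simpa using hb
    | succ n ih =>
      rw [pow_succ', mul_smul]
      exact ⟨hP _ ih.1, by rw [h _ ih.1, ih.2]; push_cast; ring⟩
  have h1 := (key (Nat.card G)).2
  rw [pow_card_eq_one', one_smul, left_eq_add, mul_eq_zero] at h1
  exact h1.resolve_left fun e => hG ((ZMod.natCast_eq_zero_iff _ _).1 e)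

theorem exists_orbit_rep (G I : Type*) [Group G] [MulAction G I] :
    ∃ (rep : I → I) (t : I → G), (∀ i, t i • rep i = i) ∧ ∀ (g : G) i, rep (g • i) = rep i := by
  have h : ∀ i : I, ∃ t : G, t • (Quotient.mk (orbitRel G I) i).out = i := fun i =>
    (orbitRel G I).symm (Quotient.mk_out (s := orbitRel G I) i)
  choose t ht using h
  refine ⟨_, t, ht, fun g i => ?_⟩
  rw [Quotient.sound (s := orbitRel G I) (a := g • i) (b := i) ⟨g, rfl⟩]

/-- colourings of the blocks and of the set of blocks give a colouring of the whole set -/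
theorem colouring_of_blocks {G Ω I : Type*} [Group G] [Finite G] [MulAction G Ω] [MulAction G I]
    (hG : ¬ p ∣ Nat.card G) (π : Ω → I) (hπ : Function.Surjective π)
    (he : ∀ (g : G) a, π (g • a) = g • π a)
    (hI : ∃ h : I → ZMod p, ∀ g : G, (∀ i, h (g • i) = h i) → ∀ i : I, g • i = i)
    (hF : ∀ i : I, ∃ f : Ω → ZMod p, ∀ g : G, g • i = i → (∀ a, π a = i → f (g • a) = f a) →
      ∀ a, π a = i → g • a = a) :
    ∃ f : Ω → ZMod p, ∀ g : G, (∀ a, f (g • a) = f a) → ∀ a : Ω, g • a = a := by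
  obtain ⟨h, hh⟩ := hI
  choose F hF using hF
  obtain ⟨rep, t, ht, hr⟩ := exists_orbit_rep G I
  refine ⟨fun a => F (rep (π a)) ((t (π a))⁻¹ • a) + h (π a), fun g hg => ?_⟩
  have k1 : ∀ i, ((t (g • i))⁻¹ * g * t i) • rep i = rep i := fun i => by
    rw [mul_smul, mul_smul, ht, inv_smul_eq_iff, ← hr g i, ht]
  have k2 : ∀ i b, π b = rep i → F (rep i) (((t (g • i))⁻¹ * g * t i) • b) =
      F (rep i) b + (h i - h (g • i)) := fun i b hb => by
    have := hg (t i • b)
    simp only [he, hb, ht, hr, inv_smul_smul] at this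
    rw [mul_smul, mul_smul]
    linear_combination this
  have k3 : ∀ i, h i - h (g • i) = 0 := fun i => by
    obtain ⟨b, hb⟩ := hπ (rep i)
    exact eq_zero_of_iterate hG (F (rep i)) (fun b => π b = rep i)
      (fun b hb => by rw [he, hb, k1]) (k2 i) hb
  have k4 := hh g fun i => (sub_eq_zero.1 (k3 i)).symm
  intro a
  have k5 := hF _ _ (k1 (π a)) (fun b hb => by rw [k2 _ b hb, k3, add_zero]) ((t (π a))⁻¹ • a)
    (by rw [he, inv_smul_eq_iff, ht])
  rwa [k4, mul_smul, mul_smul, smul_inv_smul, smul_left_cancel_iff] at k5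

section Regular

variable {G Ω : Type*} [Group G] [Finite G] [MulAction G Ω] {U : Subgroup G} [U.Normal] {ω : Ω}
  (hf : ∀ g : G, (∀ a : Ω, g • a = a) → g = 1) (hU : ∀ a ∈ U, ∀ b ∈ U, a * b = b * a)
  (ht : ∀ a : Ω, ∃ u ∈ U, u • ω = a)
include hf hU ht

theorem eq_one_of_cent {g : G} (hg : ∀ u ∈ U, g * u = u * g) (h : g • ω = ω) : g = 1 := by
  refine hf g fun a => ?_
  obtain ⟨u, hu, rfl⟩ := ht a
  rw [← mul_smul, hg u hu, mul_smul, h]

theorem mem_of_cent {g : G} (hg : ∀ u ∈ U, g * u = u * g) : g ∈ U := by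
  obtain ⟨t, h1, h2⟩ := ht (g • ω)
  have := eq_one_of_cent hf hU ht (g := t⁻¹ * g) (fun u hu => by
    rw [mul_assoc, hg u hu, ← mul_assoc, hU _ (inv_mem h1) u hu, mul_assoc])
    (by rw [mul_smul, ← h2, inv_smul_smul])
  exact inv_mul_eq_one.1 this ▸ h1

theorem colouring_of_regular {m : ℕ} (hm : m ≤ p) (c : U → Fin m)
    (hc : ∀ (g : G) (t : U), (orderOf g).Prime → (t : G) • ω = g • ω →
      (∀ u, c (MulAut.conjNormal g u * t) = c u) → g = 1) :
    ∃ f : Ω → ZMod p, ∀ g : G, (∀ a, f (g • a) = f a) → ∀ a : Ω, g • a = a := by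
  obtain ⟨ι⟩ : Nonempty (Fin m ↪ ZMod p) :=
    Function.Embedding.nonempty_of_card_le (by rwa [Fintype.card_fin, ZMod.card])
  have hb : Function.Bijective fun u : U => (u : G) • ω := by
    refine ⟨fun u u' e => ?_, fun a => ?_⟩
    · have := eq_one_of_cent hf hU ht (g := (u : G)⁻¹ * u')
        (fun w hw => hU _ (mul_mem (inv_mem u.2) u'.2) w hw)
        (by rw [mul_smul, inv_smul_eq_iff]; exact e.symm)
      exact Subtype.ext (inv_mul_eq_one.1 this)
    · obtain ⟨u, hu, e⟩ := ht a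
      exact ⟨⟨u, hu⟩, e⟩
  let e := Equiv.ofBijective _ hb
  refine ⟨fun a => ι (c (e.symm a)), fun g hg => ?_⟩
  by_contra hn
  have h1 : orderOf g ≠ 1 := fun e => hn fun a => by rw [orderOf_eq_one_iff.1 e, one_smul]
  have ho : orderOf (g ^ (orderOf g / (orderOf g).minFac)) = (orderOf g).minFac :=
    orderOf_pow_orderOf_div (orderOf_pos g).ne' (Nat.minFac_dvd _)
  have hq := Nat.minFac_prime h1
  rw [← ho] at hq
  have h2 : ∀ (n : ℕ) a, ι (c (e.symm (g ^ n • a))) = ι (c (e.symm a)) := fun n => by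
    induction n with
    | zero => simp
    | succ n ih => intro a; rw [pow_succ', mul_smul]; exact (hg _).trans (ih a)
  have h3 := h2 (orderOf g / (orderOf g).minFac)
  generalize g ^ (orderOf g / (orderOf g).minFac) = k at hq h3
  obtain ⟨t, h4, h5⟩ := ht (k • ω)
  have := hc k ⟨t, h4⟩ hq h5 fun u => by
    have h6 := ι.injective (h3 (e u))
    rw [e.symm_apply_apply] at h6
    rw [← h6]
    congr 1
    rw [eq_comm, e.symm_apply_eq]
    change k • (u : G) • ω = (k * u * k⁻¹ * t) • ω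
    rw [mul_smul _ t, h5, ← mul_smul, ← mul_smul, inv_mul_cancel_right]
  rw [this, orderOf_one] at hq
  exact Nat.not_prime_one hq

theorem eq_one_of_conj {g : G} {t : U} (h : (t : G) • ω = g • ω) (h1 : t = 1)
    (h2 : ∀ u : U, MulAut.conjNormal g u = u) : g = 1 :=
  eq_one_of_cent hf hU ht
    (fun u hu => mul_inv_eq_iff_eq_mul.1 (congrArg Subtype.val (h2 ⟨u, hu⟩)))
    (by rw [← h, h1, coe_one, one_smul])

theorem colouring_three (hm : IsMinNormal U) (h3 : ¬ 3 ∣ Nat.card G) (h2 : ∀ a ∈ U, a ^ 2 = 1) :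
    ∃ c : U → Fin 3, ∀ (g : G) (t : U), (orderOf g).Prime → (t : G) • ω = g • ω →
      (∀ u, c (MulAut.conjNormal g u * t) = c u) → g = 1 := by
  classical
  let _ : CommGroup U := { mul_comm := fun a b => Subtype.ext (hU _ a.2 _ b.2) }
  have h2' : ∀ a : U, a ^ 2 = 1 := fun a => Subtype.ext (h2 a a.2)
  obtain ⟨H, Y, hY, -, -, hH, haff, hfx⟩ := exists_col3 h2'
  let c : U → Fin 3 := fun a => if a ∈ H ∧ a ∉ Y ∧ a ≠ 1 then 0
    else if a = 1 ∨ (a ∈ Y ∧ a ∉ H) then 1 else 2
  have c0 : ∀ a, c a = 0 ↔ a ∈ H ∧ a ∉ Y ∧ a ≠ 1 := fun a => by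
    simp only [c]; split_ifs with h1 h2 <;> simp [h1]
  have c1 : ∀ a, c a = 1 ↔ a = 1 ∨ (a ∈ Y ∧ a ∉ H) := fun a => by
    simp only [c]; split_ifs with h1 h2
    · simp [h1]
    · simp [h2]
    · simpa using h2
  refine ⟨c, fun g t hg htg hc => ?_⟩
  let γ : G → U →* U := fun g => (MulAut.conjNormal g : MulAut U).toMonoidHom
  have hγ : ∀ g u, γ g u = MulAut.conjNormal g u := fun _ _ => rfl
  have hinj : ∀ g, Function.Injective (γ g) := fun g => (MulAut.conjNormal g).injective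
  have hit : ∀ (g : G) (n : ℕ), (γ g)^[n] = γ (g ^ n) := fun g n => by
    induction n with
    | zero => ext u; simp [hγ]
    | succ n ih => ext u; rw [Function.iterate_succ_apply', ih, pow_succ']; simp [hγ]
  have ht1 : t = 1 := by
    have e := hc 1
    rw [map_one, one_mul, (c1 1).2 (Or.inl rfl), c1] at e
    refine e.resolve_right fun e => e.2 (haff (γ g) t (fun a ha ha' h1 => ?_) e.1)
    exact ((c0 _).1 ((hc a).trans ((c0 a).2 ⟨ha, ha', h1⟩))).1
  simp only [ht1, mul_one] at hc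
  have hgω : g • ω = ω := by rw [← htg, ht1, coe_one, one_smul]
  have n1 : ∀ a, a ≠ 1 → γ g a ≠ 1 := fun a h e => h (hinj g (e.trans (map_one _).symm))
  have hHγ : ∀ a ∈ H, γ g a ∈ H := by
    have : H ≤ H.comap (γ g) := by
      conv_lhs => rw [← hH]
      rw [closure_le]
      exact fun a ha => ((c0 _).1 ((hc a).trans ((c0 a).2 ha))).1
    exact this
  have hi : (fx (γ g)).index ≤ 2 := by
    refine hfx (γ g) (orderOf g) hg (fun e => h3 (e ▸ orderOf_dvd_natCard g)) ?_ hHγ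
      fun a ha => ?_
    · rw [hit, pow_orderOf_eq_one]; ext u; simp [hγ]
    · have ha1 : a ≠ 1 := fun e => hY (e ▸ ha)
      by_cases haH : a ∈ H
      · by_contra hn
        exact ((c0 a).1 ((hc a).symm.trans ((c0 _).2 ⟨hHγ a haH, hn, n1 a ha1⟩))).2.1 ha
      · exact (((c1 _).1 ((hc a).trans ((c1 a).2 (Or.inr ⟨ha, haH⟩)))).resolve_left (n1 a ha1)).1
  have hi' : ∀ x : G, (fx (γ (x * g * x⁻¹))).index ≤ 2 := fun x => by
    have : fx (γ (x * g * x⁻¹)) = (fx (γ g)).comap (γ x⁻¹) := by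
      ext u
      simp only [mem_fx, mem_comap, hγ, map_mul, MulAut.mul_apply, map_inv]
      exact (MulEquiv.eq_symm_apply _).symm
    rw [this, index_comap_of_surjective (f := γ x⁻¹) _ (MulAut.conjNormal x⁻¹).surjective]
    exact hi
  have h24 : ∀ x : G, (g * (x * g * x⁻¹)) ^ 2 ^ 3 = 1 := fun x => by
    have e := transvection_pow h2' (hinj g) hi (hinj _) (hi' x)
    rw [show γ g ∘ γ (x * g * x⁻¹) = γ (g * (x * g * x⁻¹)) from funext fun u => by simp [hγ],
      hit] at e
    have e2 := h2 ((g * (x * g * x⁻¹)) ^ 12) (mem_of_cent hf hU ht fun u hu =>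
      mul_inv_eq_iff_eq_mul.1 (congrArg Subtype.val (congrFun e ⟨u, hu⟩)))
    rw [← pow_mul, show 12 * 2 = 2 ^ 3 * 3 from rfl, pow_mul] at e2
    have e3 := Nat.dvd_gcd (orderOf_dvd_of_pow_eq_one e2) (orderOf_dvd_natCard _)
    rw [(Nat.prime_three.coprime_iff_not_dvd.2 h3).gcd_eq_one, Nat.dvd_one] at e3
    exact orderOf_eq_one_iff.1 e3
  have hg2 : g * g = 1 := by
    have e := h24 1
    rw [one_mul, inv_one, mul_one, ← pow_two, ← pow_mul, show 2 * 2 ^ 3 = 2 ^ 4 from rfl] at e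
    have := (Nat.prime_dvd_prime_iff_eq hg Nat.prime_two).1
      (hg.dvd_of_dvd_pow (orderOf_dvd_of_pow_eq_one e))
    rw [← pow_two, ← this, pow_orderOf_eq_one]
  have hz : ∀ (y : G) (k : ℕ), y ^ 2 ^ k = 1 → IsPGroup 2 (zpowers y) := fun y k e => by
    rintro ⟨_, n, rfl⟩
    refine ⟨k, Subtype.ext ?_⟩
    change (y ^ n) ^ 2 ^ k = 1
    rw [← zpow_natCast, ← zpow_mul, mul_comm, zpow_mul, zpow_natCast, e, one_zpow]
  have hO : g ∈ pCore 2 G := by
    refine mem_pCore_of_forall_conj fun x => ⟨zpowers g ⊔ zpowers (g * (x * g * x⁻¹)),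
      (hz g 1 (by rw [pow_one, pow_two, hg2])).to_sup_of_normal_right' (hz _ 3 (h24 x)) ?_,
      mem_sup_left (mem_zpowers g), ?_⟩
    · rw [zpowers_le]
      refine mem_normalizer_fintype ?_
      rintro _ ⟨n, rfl⟩
      have i1 : g⁻¹ = g := inv_eq_of_mul_eq_one_right hg2
      have e : g * (g * (x * g * x⁻¹)) * g⁻¹ = (g * (x * g * x⁻¹))⁻¹ := by
        rw [← mul_assoc g g, hg2, one_mul, mul_inv_rev, mul_inv_rev, mul_inv_rev, inv_inv, i1,
          mul_assoc x]
      change g * (g * (x * g * x⁻¹)) ^ n * g⁻¹ ∈ zpowers _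
      rw [← conj_zpow, e]
      exact zpow_mem (inv_mem (mem_zpowers _)) n
    · have := mul_mem (mem_sup_left (T := zpowers (g * (x * g * x⁻¹))) (mem_zpowers g))
        (mem_sup_right (mem_zpowers (g * (x * g * x⁻¹))))
      rwa [← mul_assoc g g, hg2, one_mul] at this
  exact eq_one_of_cent hf hU ht (fun u hu => hm.le_centralizer_pCore hu g hO) hgω

theorem colouring_of_transitive (hp2 : p ≠ 2) (hG : ¬ p ∣ Nat.card G) (hm : IsMinNormal U)
    {r : ℕ} [hr : Fact r.Prime] (h2 : ∀ a ∈ U, a ^ r = 1) :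
    ∃ f : Ω → ZMod p, ∀ g : G, (∀ a, f (g • a) = f a) → ∀ a : Ω, g • a = a := by
  classical
  let _ : CommGroup U := { mul_comm := fun a b => Subtype.ext (hU _ a.2 _ b.2) }
  have h2' : ∀ a : U, a ^ r = 1 := fun a => Subtype.ext (h2 a a.2)
  by_cases h3 : p = 3
  · subst h3
    by_cases r2 : r = 2
    · subst r2
      obtain ⟨c, hc⟩ := colouring_three hf hU ht hm hG h2
      exact colouring_of_regular hf hU ht le_rfl c hc
    · have r3 : r ≠ 3 := by
        rintro rfl
        obtain ⟨⟨a, ha⟩, h1⟩ := ne_bot_iff_exists_ne_one.1 hm.ne_bot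
        exact hG (orderOf_eq_prime (h2 a ha) (fun e => h1 (Subtype.ext e)) ▸ orderOf_dvd_natCard a)
      obtain ⟨c, hc⟩ := exists_aff3 r2 r3 h2'
      refine colouring_of_regular hf hU ht le_rfl c fun g t _ h1 h4 => ?_
      obtain ⟨e1, e2⟩ := hc (MulAut.conjNormal g : MulAut U).toMonoidHom
        (MulAut.conjNormal g).injective t h4
      exact eq_one_of_conj hf hU ht h1 e2 (DFunLike.congr_fun e1)
  · obtain ⟨-, c, -, -, -, -, -, -, -, hc⟩ := exists_rc4 h2'
    refine colouring_of_regular hf hU ht (hp.out.five_le_of_ne_two_of_ne_three hp2 h3)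
      (fun u => if u = 1 then Fin.last 4 else (c u).castSucc) fun g t _ h1 h4 => ?_
    have ht1 : t = 1 := by
      have e := h4 1
      by_contra hn
      simp only [map_one, one_mul, if_neg hn, if_true] at e
      exact (Fin.castSucc_lt_last _).ne e
    refine eq_one_of_conj hf hU ht h1 ht1 (DFunLike.congr_fun (hc
      (MulAut.conjNormal g : MulAut U).toMonoidHom (MulAut.conjNormal g).injective fun a => ?_))
    by_cases ha : a = 1
    · rw [ha, map_one]
    · have e := h4 a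
      simp only [ht1, mul_one, if_neg ha,
        if_neg ((map_ne_one_iff _ (MulAut.conjNormal g).injective).2 ha)] at e
      exact Fin.castSucc_injective _ e

end Regular

theorem colouring_of_range {G Ω : Type*} [Group G] [MulAction G Ω]
    (h : ∃ f : Ω → ZMod p, ∀ g : (toPermHom G Ω).range, (∀ a, f (g • a) = f a) →
      ∀ a : Ω, g • a = a) :
    ∃ f : Ω → ZMod p, ∀ g : G, (∀ a, f (g • a) = f a) → ∀ a : Ω, g • a = a :=
  h.imp fun _ hf g hg => hf ⟨_, g, rfl⟩ hg

theorem exists_colouring_aux (hp2 : p ≠ 2) (n : ℕ) : ∀ (Ω : Type v) [Finite Ω], Nat.card Ω = n →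
    ∀ (G : Type v) [Group G] [Finite G] [Group.IsSolvable G] [MulAction G Ω],
      ¬ p ∣ Nat.card G →
      ∃ f : Ω → ZMod p, ∀ g : G, (∀ a, f (g • a) = f a) → ∀ a : Ω, g • a = a := by
  classical
  induction n using Nat.strong_induction_on with
  | _ n ih =>
  intro Ω _ hn G₀ _ _ _ _ hG₀
  refine colouring_of_range ?_
  have hG : ¬ p ∣ Nat.card (toPermHom G₀ Ω).range := fun h =>
    hG₀ (h.trans (card_range_dvd _))
  have hs : Group.IsSolvable (toPermHom G₀ Ω).range :=
    Group.isSolvable_of_surjective (toPermHom G₀ Ω).rangeRestrict_surjective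
  have hf : ∀ g : (toPermHom G₀ Ω).range, (∀ a : Ω, g • a = a) → g = 1 := fun g h =>
    Subtype.ext (Equiv.ext h)
  generalize (toPermHom G₀ Ω).range = G at hG hs hf
  rcases subsingleton_or_nontrivial G with hG1 | hG1
  · exact ⟨0, fun g _ a => by rw [Subsingleton.elim g 1, one_smul]⟩
  obtain ⟨U, hm⟩ := exists_isMinNormal G
  have := hm.normal
  obtain ⟨r, hr, hU⟩ := hm.exists_isElementaryAbelian
  have := Fact.mk hr
  have hc := isMulCommutative_iff_forall.1 hU.1
  by_cases ht : ∃ ω : Ω, ∀ a : Ω, ∃ u ∈ U, u • ω = a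
  · obtain ⟨ω, ht⟩ := ht
    exact colouring_of_transitive hf hc ht hp2 hG hm hU.2
  push Not at ht
  let I : SubMulAction G (Set Ω) := ⟨Set.range (orbit U), by
    rintro g _ ⟨a, rfl⟩
    exact ⟨g • a, (smul_orbit_eq_orbit_smul U a g).symm⟩⟩
  let π : Ω → I := fun a => ⟨orbit U a, a, rfl⟩
  have hπ : Function.Surjective π := by
    rintro ⟨_, a, rfl⟩
    exact ⟨a, rfl⟩
  have he : ∀ (g : G) a, π (g • a) = g • π a := fun g a =>
    Subtype.ext (smul_orbit_eq_orbit_smul U a g).symm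
  refine colouring_of_blocks hG π hπ he (ih _ ?_ I rfl G hG) fun i => ?_
  · let _ := Fintype.ofFinite Ω
    let _ := Fintype.ofFinite I
    rw [← hn, Nat.card_eq_fintype_card, Nat.card_eq_fintype_card]
    refine Fintype.card_lt_of_surjective_not_injective π hπ fun hi => hm.ne_bot ?_
    rw [eq_bot_iff]
    exact fun u hu => hf u fun a => hi (Subtype.ext (orbit_smul (⟨u, hu⟩ : U) a))
  · let F : SubMulAction (stabilizer G i) Ω := ⟨{a | π a = i}, fun g a ha =>
      (he g a).trans (by rw [show π a = i from ha]; exact g.2)⟩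
    obtain ⟨ω, rfl⟩ := hπ i
    obtain ⟨b, hb⟩ := ht ω
    obtain ⟨f, hF⟩ := ih _ (hn ▸ Finite.card_subtype_lt (p := fun a => a ∈ F) (x := b) fun h => by
        obtain ⟨u, hu⟩ := (orbit_eq_iff (G := U)).1 (congrArg Subtype.val h)
        exact hb u u.2 hu) F rfl (stabilizer G (π ω)) fun h => hG (h.trans (card_subgroup_dvd_card _))
    refine ⟨fun a => if h : a ∈ F then f ⟨a, h⟩ else 0, fun g hg h a ha => ?_⟩
    refine congrArg Subtype.val (hF ⟨g, hg⟩ (fun b => ?_) ⟨a, ha⟩)
    have := h b b.2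
    beta_reduce at this
    rwa [dif_pos b.2,
      dif_pos (show g • (b : Ω) ∈ F from ((⟨g, hg⟩ : stabilizer G (π ω)) • b).2)] at this

theorem exists_colouring {p : ℕ} [Fact p.Prime] (hp : p ≠ 2) {G Ω : Type*} [Group G] [Finite G]
    [Group.IsSolvable G] [Finite Ω] [MulAction G Ω] (hG : ¬ p ∣ Nat.card G) :
    ∃ f : Ω → ZMod p, ∀ g : G, (∀ a, f (g • a) = f a) → ∀ a : Ω, g • a = a :=
  have : Group.IsSolvable (toPermHom G Ω).range :=
    Group.isSolvable_of_surjective (toPermHom G Ω).rangeRestrict_surjective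
  colouring_of_range (exists_colouring_aux hp _ Ω rfl _ fun h => hG (h.trans (card_range_dvd _)))

end Cfsg.Bs
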