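import Cfsg.Agent.Grp.BaerSuzuki
import Cfsg.Agent.Grp.MinNormal

/-! # Rigid colourings of elementary abelian groups -/

set_option autoImplicit false
set_option linter.unusedSectionVars false

namespace Cfsg.Bs

open Subgroup

variable {T : Type*}

theorem exists_frame [CommGroup T] [Finite T] {r : ℕ} [Fact r.Prime] (hr : ∀ a : T, a ^ r = 1) :
    ∃ (k : ℕ) (e : Fin k → T) (l : Fin k → T → ZMod r), (∀ i a b, l i (a * b) = l i a + l i b) ∧
      (∀ i j, l i (e j) = if i = j then 1 else 0) ∧ closure (Set.range e) = ⊤ ∧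
      Nat.card T = r ^ k := by
  obtain ⟨_⟩ : Nonempty (Module (ZMod r) (Additive T)) := ⟨AddCommGroup.zmodModule fun a => by
    change Additive.ofMul (a.toMul ^ r) = 0
    rw [hr]; rfl⟩
  have : Module.Finite (ZMod r) (Additive T) := Module.Finite.of_finite
  let b := Module.finBasis (ZMod r) (Additive T)
  refine ⟨_, fun i => (b i).toMul, fun i a => b.repr (Additive.ofMul a) i, fun i a c => by simp,
    fun i j => by simp [Finsupp.single_apply, eq_comm], ?_, ?_⟩
  · rw [eq_top_iff]
    intro a _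
    have : a = ∏ i, (b i).toMul ^ (b.repr (Additive.ofMul a) i).val := by
      apply Additive.ofMul.injective
      rw [ofMul_prod]
      conv_lhs => rw [← b.sum_repr (Additive.ofMul a)]
      refine Finset.sum_congr rfl fun i _ => ?_
      rw [ofMul_pow, ofMul_toMul, ← Nat.cast_smul_eq_nsmul (ZMod r), ZMod.natCast_zmod_val]
    rw [this]
    exact prod_mem fun i _ => pow_mem (Subgroup.subset_closure (Set.mem_range_self i)) _
  · have := Module.natCard_eq_pow_finrank (K := ZMod r) (V := Additive T)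
    rw [Nat.card_zmod] at this
    exact this

theorem fin_id_of_succ {k : ℕ} {σ : Fin k → Fin k}
    (h : ∀ i j : Fin k, (j : ℕ) = i + 1 → (σ j : ℕ) = σ i + 1) (i : Fin k) : σ i = i := by
  have h0 : 0 < k := i.pos
  have key : ∀ n (hn : n < k), (σ ⟨n, hn⟩ : ℕ) = σ ⟨0, h0⟩ + n := by
    intro n
    induction n with
    | zero => intro; rfl
    | succ n ih => intro hn; rw [h ⟨n, by omega⟩ ⟨n + 1, hn⟩ rfl, ih]; omega
  have h1 := key (k - 1) (by omega)
  have h2 := (σ ⟨k - 1, by omega⟩).2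
  have h3 := key i i.2
  ext
  simp only [Fin.eta] at h3
  omega

theorem fin_id_of_adj {k : ℕ} {σ : Fin k → Fin k} (hσ : Function.Injective σ)
    (h0 : ∀ i : Fin k, (i : ℕ) = 0 → σ i = i)
    (h : ∀ i j : Fin k, (j : ℕ) = i + 1 → (σ j : ℕ) = σ i + 1 ∨ (σ i : ℕ) = σ j + 1)
    (i : Fin k) : σ i = i := by
  obtain ⟨n, hn⟩ := i
  induction n using Nat.strong_induction_on with
  | _ n ih =>
    rcases n with _ | n
    · exact h0 _ rfl
    · have e := ih n (by omega) (by omega)
      rcases h ⟨n, by omega⟩ ⟨n + 1, hn⟩ rfl with h1 | h1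
      · rw [e] at h1; exact Fin.ext h1
      · rw [e] at h1
        simp only at h1
        have e2 := ih (n - 1) (by omega) (by omega)
        have := hσ (a₁ := ⟨n + 1, hn⟩) (a₂ := ⟨n - 1, by omega⟩) (by rw [e2]; ext; simp; omega)
        simp at this
        omega

theorem ncard_le_of_forall (S : Set T) (f : ℕ → T) (n : ℕ) (h : ∀ a ∈ S, ∃ i < n, a = f i) :
    S.ncard ≤ n :=
  calc S.ncard ≤ (f '' (Finset.range n : Set ℕ)).ncard :=
        Set.ncard_le_ncard (fun a ha => by
          obtain ⟨i, hi, rfl⟩ := h a ha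
          exact ⟨i, by simpa using hi, rfl⟩) ((Finset.finite_toSet _).image _)
    _ ≤ n := (Set.ncard_image_le (Finset.finite_toSet _)).trans (by simp)

section Frame

variable [CommGroup T] {r k : ℕ} [Fact r.Prime] {e : Fin k → T} {l : Fin k → T → ZMod r}

theorem coord_one (hl : ∀ i a b, l i (a * b) = l i a + l i b) (i : Fin k) : l i 1 = 0 := by
  have := hl i 1 1
  rw [one_mul] at this
  exact left_eq_add.1 this

theorem coord_div (hl : ∀ i a b, l i (a * b) = l i a + l i b) (i : Fin k) (a b : T) :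
    l i (a / b) = l i a - l i b := by
  rw [eq_sub_iff_add_eq, ← hl, div_mul_cancel]

theorem frame_inj (he : ∀ i j, l i (e j) = if i = j then 1 else 0) : Function.Injective e := by
  intro i j h
  by_contra hne
  have := he i j
  rw [← h, he, if_pos rfl, if_neg hne] at this
  exact one_ne_zero this

theorem eq_id_of_frame (hc : closure (Set.range e) = ⊤) {γ : T →* T} (h : ∀ i, γ (e i) = e i) :
    γ = MonoidHom.id T :=
  MonoidHom.eq_of_eqOn_dense hc (by rintro _ ⟨i, rfl⟩; exact h i)

end Frame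

/-- A rigid colouring with four colours; `1` has colour `3`. -/
theorem exists_rc4 [CommGroup T] [Finite T] {r : ℕ} [Fact r.Prime] (hr : ∀ a : T, a ^ r = 1) :
    ∃ (k : ℕ) (c : T → Fin 4), Nat.card T = r ^ k ∧ c 1 = 3 ∧ {a | c a = 0}.ncard ≤ min 1 k ∧
      {a | c a = 1}.ncard ≤ k - 1 ∧ {a | c a = 2}.ncard ≤ k - 1 ∧
      closure {a | c a = 0 ∨ c a = 1} = ⊤ ∧ (r = 2 → k ≤ 2 → ∀ a, c a = 3 → a = 1) ∧
      ∀ γ : T →* T, Function.Injective γ → (∀ a, c (γ a) = c a) → γ = MonoidHom.id T := by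
  classical
  obtain ⟨k, e, l, hl, he, hc, hk⟩ := exists_frame hr
  have hi := frame_inj he
  have n1 : ∀ i, e i ≠ 1 := fun i h => by
    have := he i i
    rw [h, coord_one hl, if_pos rfl] at this
    exact zero_ne_one this
  have n2 : ∀ i j m, i ≠ j → e i * e j ≠ e m := fun i j m hij h => by
    have h1 := congrArg (l i) h
    have h2 := congrArg (l j) h
    rw [hl, he, he, he, if_pos rfl] at h1 h2
    rw [if_neg hij, add_zero] at h1
    rw [if_neg hij.symm, zero_add] at h2
    split_ifs at h1 h2 with a b <;> simp_all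
  have n3 : ∀ i j, i ≠ j → e i * e j ≠ 1 := fun i j hij h => by
    have h1 := congrArg (l i) h
    rw [hl, he, he, if_pos rfl, if_neg hij, add_zero, coord_one hl] at h1
    exact one_ne_zero h1
  have n4 : ∀ i j m n, i ≠ j → e i * e j = e m * e n → i = m ∨ i = n := fun i j m n hij h => by
    have h1 := congrArg (l i) h
    rw [hl, hl, he, he, he, he, if_pos rfl, if_neg hij, add_zero] at h1
    by_contra H
    push Not at H
    rw [if_neg H.1, if_neg H.2, add_zero] at h1
    exact one_ne_zero h1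
  let c : T → Fin 4 := fun a => if ∃ i : Fin k, (i : ℕ) = 0 ∧ a = e i then 0
    else if ∃ i, a = e i then 1
    else if ∃ i j : Fin k, (j : ℕ) = i + 1 ∧ a = e i * e j then 2 else 3
  have c0 : ∀ a, c a = 0 ↔ ∃ i : Fin k, (i : ℕ) = 0 ∧ a = e i := fun a => by
    simp only [c]; split_ifs with h1 h2 h3 <;> simp [h1]
  have c01 : ∀ a, (c a = 0 ∨ c a = 1) ↔ ∃ i, a = e i := fun a => by
    simp only [c]
    split_ifs with h1 h2 h3
    · obtain ⟨i, -, h⟩ := h1; simpa using ⟨i, h⟩
    all_goals simp [h2]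
  have c1 : ∀ a, c a = 1 → ∃ i : Fin k, (i : ℕ) ≠ 0 ∧ a = e i := fun a h => by
    obtain ⟨i, rfl⟩ := (c01 a).1 (Or.inr h)
    refine ⟨i, fun h0 => ?_, rfl⟩
    rw [(c0 _).2 ⟨i, h0, rfl⟩] at h
    exact absurd h (by decide)
  have c2 : ∀ a, c a = 2 ↔ ∃ i j : Fin k, (j : ℕ) = i + 1 ∧ a = e i * e j := fun a => by
    simp only [c]
    split_ifs with h1 h2 h3
    · obtain ⟨m, -, rfl⟩ := h1
      refine ⟨fun h => absurd h (by decide), fun ⟨i, j, h, h'⟩ => ?_⟩
      exact absurd h'.symm (n2 _ _ _ (by intro h; omega))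
    · obtain ⟨m, rfl⟩ := h2
      refine ⟨fun h => absurd h (by decide), fun ⟨i, j, h, h'⟩ => ?_⟩
      exact absurd h'.symm (n2 _ _ _ (by intro h; omega))
    · simpa using h3
    · simpa using h3
  have c3 : c 1 = 3 := by
    have a1 := (c01 1).not.2 fun ⟨i, h⟩ => n1 i h.symm
    have a2 := (c2 1).not.2 fun ⟨i, j, h, h'⟩ => n3 i j (by intro h; omega) h'.symm
    generalize c 1 = x at *
    revert x; decide
  let f : ℕ → T := fun n => if h : n < k then e ⟨n, h⟩ else 1
  have hf : ∀ i : Fin k, f i = e i := fun i => dif_pos i.2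
  refine ⟨k, c, hk, c3, ncard_le_of_forall _ f _ fun a ha => ?_, ncard_le_of_forall _ (fun n => f (n + 1)) _ fun a ha => ?_,
    ncard_le_of_forall _ (fun n => f n * f (n + 1)) _ fun a ha => ?_, ?_, ?_, fun γ hγ h => ?_⟩
  · obtain ⟨i, h0, rfl⟩ := (c0 a).1 ha
    exact ⟨i, by have := i.2; omega, (hf i).symm⟩
  · obtain ⟨i, h0, rfl⟩ := c1 a ha
    exact ⟨i - 1, by have := i.2; omega, by rw [← hf]; congr 1; omega⟩
  · obtain ⟨i, j, h0, rfl⟩ := (c2 a).1 ha
    exact ⟨i, by have := j.2; omega, by rw [← h0, hf, hf]⟩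
  · rw [← hc]
    congr 1
    ext a
    exact (c01 a).trans (exists_congr fun _ => eq_comm)
  · rintro rfl hk2 a ha
    have a1 := (c01 a).not.1 (by rw [ha]; decide)
    have a2 := (c2 a).not.1 (by rw [ha]; decide)
    have hsq : ∀ b : T, b * b = 1 := fun b => by rw [← sq, hr]
    have key : ∀ b ∈ closure (Set.range e), b = 1 ∨ (∃ i, b = e i) ∨
        ∃ i j : Fin k, (j : ℕ) = i + 1 ∧ b = e i * e j := by
      have step : ∀ m y, (y = 1 ∨ (∃ i, y = e i) ∨
          ∃ i j : Fin k, (j : ℕ) = i + 1 ∧ y = e i * e j) → (e m * y = 1 ∨ (∃ i, e m * y = e i) ∨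
          ∃ i j : Fin k, (j : ℕ) = i + 1 ∧ e m * y = e i * e j) := by
        rintro m y (rfl | ⟨i, rfl⟩ | ⟨i, j, hij, rfl⟩)
        · exact Or.inr (Or.inl ⟨m, mul_one _⟩)
        · rcases lt_trichotomy m i with h | rfl | h
          · exact Or.inr (Or.inr ⟨m, i, by have := i.2; omega, rfl⟩)
          · exact Or.inl (hsq _)
          · exact Or.inr (Or.inr ⟨i, m, by have := m.2; omega, mul_comm _ _⟩)
        · obtain rfl | rfl : m = i ∨ m = j := by have := m.2; have := j.2; omega
          · exact Or.inr (Or.inl ⟨j, by rw [← mul_assoc, hsq, one_mul]⟩)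
          · exact Or.inr (Or.inl ⟨i, by rw [mul_left_comm, hsq, mul_one]⟩)
      intro b hb
      induction hb using closure_induction_left with
      | one => exact Or.inl rfl
      | mul_left x hx y _ ih =>
        obtain ⟨m, rfl⟩ := hx
        exact step m y ih
      | inv_mul_cancel x hx y _ ih =>
        obtain ⟨m, rfl⟩ := hx
        rw [inv_eq_of_mul_eq_one_right (hsq _)]
        exact step m y ih
    rcases key a (hc ▸ mem_top a) with h | h | h
    exacts [h, absurd h a1, absurd h a2]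
  · have : ∀ i, ∃ j, γ (e i) = e j := fun i => (c01 _).1 (by rw [h]; exact (c01 _).2 ⟨i, rfl⟩)
    choose σ hσ using this
    have hinj : Function.Injective σ := fun i j hij => hi (hγ (by rw [hσ, hσ, hij]))
    refine eq_id_of_frame hc fun i => (hσ i).trans
      (congrArg e (fin_id_of_adj hinj (fun i h0 => ?_) (fun i j hij => ?_) i))
    · obtain ⟨j, hj, h'⟩ := (c0 (γ (e i))).1 (by rw [h]; exact (c0 _).2 ⟨i, h0, rfl⟩)
      rw [hσ] at h'
      rw [hi h']
      ext; omega
    · obtain ⟨m, n, hmn, h'⟩ := (c2 (γ (e i * e j))).1 (by rw [h]; exact (c2 _).2 ⟨i, j, hij, rfl⟩)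
      rw [map_mul, hσ, hσ] at h'
      have hne : σ i ≠ σ j := fun h => by have := hinj h; omega
      have a1 := n4 _ _ _ _ hne h'
      have a2 := n4 _ _ _ _ hne.symm ((mul_comm _ _).trans h')
      rcases a1 with a1 | a1 <;> rcases a2 with a2 | a2 <;> simp_all

theorem exists_dir {n : ℕ} {R : Type*} [Field R] (a : Fin n → T) (op : T → T → T)
    (lam : Fin n → T → R) {α β : R} (hop : ∀ i x y, lam i (op x y) = α * lam i x + β * lam i y)
    (ha : ∀ i j, lam i (a j) = if i = j then 1 else 0) (hα : α ≠ 0) (hβ : β ≠ 0) (hαβ : α ≠ β) :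
    ∃ c : T → Fin 3, {x | c x = 0}.ncard ≤ n - 1 ∧ (∀ x, (∀ i, lam i x = 0) → c x = 2) ∧
      ∀ φ : T → T, Function.Injective φ → (∀ x y, φ (op x y) = op (φ x) (φ y)) →
        (∀ x, c (φ x) = c x) → ∀ i, φ (a i) = a i := by
  classical
  have hi : Function.Injective a := fun i j h => by
    by_contra hne
    have := ha i j
    rw [← h, ha, if_pos rfl, if_neg hne] at this
    exact one_ne_zero this
  have e1 : ∀ i j, i ≠ j → lam i (op (a i) (a j)) = α := fun i j h => by simp [hop, ha, h]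
  have e2 : ∀ i j, i ≠ j → lam j (op (a i) (a j)) = β := fun i j h => by simp [hop, ha, h.symm]
  have n2 : ∀ i j m, i ≠ j → op (a i) (a j) ≠ a m := fun i j m hij h => by
    have h1 := e1 i j hij
    have h2 := e2 i j hij
    rw [h, ha] at h1 h2
    split_ifs at h1 h2 <;> simp_all
  have n4 : ∀ i j m q, i ≠ j → m ≠ q → op (a i) (a j) = op (a m) (a q) → i = m ∧ j = q := by
    intro i j m q hij hmq h
    have h1 := e1 i j hij
    have h2 := e2 i j hij
    rw [h, hop, ha, ha] at h1 h2
    constructor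
    · by_contra H
      rw [if_neg H] at h1
      split_ifs at h1 <;> simp_all
    · by_contra H
      rw [if_neg H] at h2
      split_ifs at h2 <;> simp_all
  let c : T → Fin 3 := fun x => if ∃ i, x = a i then 1
    else if ∃ i j : Fin n, (j : ℕ) = i + 1 ∧ x = op (a i) (a j) then 0 else 2
  have c1 : ∀ x, c x = 1 ↔ ∃ i, x = a i := fun x => by
    simp only [c]; split_ifs with h1 h2 <;> simp [h1]
  have c0 : ∀ x, c x = 0 ↔ ∃ i j : Fin n, (j : ℕ) = i + 1 ∧ x = op (a i) (a j) := fun x => by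
    simp only [c]
    split_ifs with h1 h2
    · obtain ⟨m, rfl⟩ := h1
      refine ⟨fun h => absurd h (by decide), fun ⟨i, j, h, h'⟩ => ?_⟩
      exact absurd h'.symm (n2 _ _ _ (by intro h; omega))
    · simpa using h2
    · simpa using h2
  refine ⟨c, ?_, fun x hx => ?_, fun φ hφ hφo h => ?_⟩
  · rcases n with _ | n
    · simp [c0]
    let f : ℕ → T := fun m => if h : m < n + 1 then a ⟨m, h⟩ else a 0
    have hf : ∀ i : Fin (n + 1), f i = a i := fun i => dif_pos i.2
    refine ncard_le_of_forall _ (fun m => op (f m) (f (m + 1))) _ fun x hx => ?_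
    obtain ⟨i, j, h0, rfl⟩ := (c0 x).1 hx
    exact ⟨i, by have := j.2; omega, by rw [← h0, hf, hf]⟩
  · have a1 := (c1 x).not.2 fun ⟨i, h⟩ => by simpa [h, ha] using hx i
    have a2 := (c0 x).not.2 fun ⟨i, j, h, h'⟩ => hα (by
      rw [← e1 i j (by intro h; omega), ← h', hx])
    generalize c x = y at *
    revert y; decide
  · have : ∀ i, ∃ j, φ (a i) = a j := fun i => (c1 _).1 (by rw [h]; exact (c1 _).2 ⟨i, rfl⟩)
    choose σ hσ using this
    have hinj : Function.Injective σ := fun i j hij => hi (hφ (by rw [hσ, hσ, hij]))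
    refine fun i => (hσ i).trans (congrArg a (fin_id_of_succ (fun i j hij => ?_) i))
    obtain ⟨m, q, hmq, h'⟩ := (c0 (φ (op (a i) (a j)))).1
      (by rw [h]; exact (c0 _).2 ⟨i, j, hij, rfl⟩)
    rw [hφo, hσ, hσ] at h'
    obtain ⟨h1, h2⟩ := n4 _ _ _ _ (fun h => by have := hinj h; omega) (by intro h; omega) h'
    rw [h1, h2, hmq]

/-- A rigid colouring with three colours for odd `r`, the first colour class is small. -/
theorem exists_rc3 [CommGroup T] [Finite T] {r : ℕ} [hp : Fact r.Prime] (h2 : r ≠ 2)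
    (hr : ∀ a : T, a ^ r = 1) : ∃ c : T → Fin 3, 4 * {x | c x = 0}.ncard < Nat.card T ∧ c 1 = 2 ∧
      ∀ γ : T →* T, Function.Injective γ → (∀ a, c (γ a) = c a) → γ = MonoidHom.id T := by
  obtain ⟨k, e, l, hl, he, hc, hk⟩ := exists_frame hr
  have h3 : 3 ≤ r := by have := hp.out.two_le; omega
  obtain ⟨c, h1, h0, h⟩ := exists_dir e (fun x y => x / y) l (α := 1) (β := -1)
    (fun i x y => by rw [coord_div hl]; ring) he one_ne_zero (by simp) (fun h => by
      have : ((2 : ℕ) : ZMod r) = 0 := by push_cast; linear_combination h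
      exact h2 ((Nat.prime_dvd_prime_iff_eq hp.out Nat.prime_two).1
        ((ZMod.natCast_eq_zero_iff _ _).1 this)))
  refine ⟨c, ?_, h0 _ (coord_one hl), fun γ hγ hc' =>
    eq_id_of_frame hc (h γ hγ (map_div γ) hc')⟩
  have : ∀ k : ℕ, 4 * (k - 1) < 3 ^ k := fun k => by
    induction k with
    | zero => simp
    | succ k ih => rcases k with _ | _ | k <;> simp at ih ⊢; omega
  calc _ ≤ 4 * (k - 1) := by omega
    _ < 3 ^ k := this k
    _ ≤ _ := by rw [hk]; exact Nat.pow_le_pow_left h3 k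

/-- A colouring with three colours that is rigid for affine maps, `r ≥ 5`. -/
theorem exists_aff3 [CommGroup T] [Finite T] {r : ℕ} [hp : Fact r.Prime] (h2 : r ≠ 2) (h3 : r ≠ 3)
    (hr : ∀ a : T, a ^ r = 1) : ∃ c : T → Fin 3, ∀ γ : T →* T, Function.Injective γ → ∀ t,
      (∀ a, c (γ a * t) = c a) → γ = MonoidHom.id T ∧ t = 1 := by
  obtain ⟨k, e, l, hl, he, hc, hk⟩ := exists_frame hr
  have hd : ∀ q : ℕ, q.Prime → r ≠ q → (q : ZMod r) ≠ 0 := fun q hq h h' =>
    h ((Nat.prime_dvd_prime_iff_eq hp.out hq).1 ((ZMod.natCast_eq_zero_iff _ _).1 h'))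
  obtain ⟨c, -, -, h⟩ := exists_dir (n := k + 1) (Fin.cons 1 e) (fun x y => x * x / y)
    (Fin.cons (fun x => 1 - ∑ i, l i x) l) (α := 2) (β := -1)
    (fun i x y => by
      refine Fin.cases ?_ (fun i => ?_) i
      · simp only [Fin.cons_zero, coord_div hl, hl, Finset.sum_sub_distrib, Finset.sum_add_distrib]
        ring
      · simp only [Fin.cons_succ, coord_div hl, hl]
        ring)
    (fun i j => by
      refine Fin.cases ?_ (fun i => ?_) i <;> refine Fin.cases ?_ (fun j => ?_) j <;>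
        simp [coord_one hl, he, (Fin.succ_ne_zero _).symm])
    (by simpa using hd 2 Nat.prime_two h2) (by simp) (fun h => hd 3 Nat.prime_three h3 (by
      push_cast; linear_combination h))
  refine ⟨c, fun γ hγ t hc' => ?_⟩
  have := h (fun a => γ a * t) (fun a b hab => hγ (mul_right_cancel hab))
    (fun x y => by simp only [map_div, map_mul]; simp [div_eq_mul_inv, mul_assoc, mul_left_comm,
      mul_comm]) hc'
  have ht : t = 1 := by simpa using this 0
  exact ⟨eq_id_of_frame hc fun i => by simpa [ht] using this i.succ, ht⟩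

end Cfsg.Bs
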