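import Cfsg.Agent.Bs.Comb

/-! # Colourings of elementary abelian `2`-groups that are rigid up to transvections -/

set_option autoImplicit false
set_option linter.unusedSectionVars false

namespace Cfsg.Bs

open Subgroup

variable {T : Type*} [CommGroup T] [Finite T]

/-- the fixed points of an endomorphism -/
def fx (γ : T →* T) : Subgroup T := γ.eqLocus (MonoidHom.id T)

@[simp] theorem mem_fx {γ : T →* T} {a : T} : a ∈ fx γ ↔ γ a = a := Iff.rfl

theorem inj_of_iterate {α : Type*} {γ : α → α} {l : ℕ} (hl : 0 < l) (h : γ^[l] = id) :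
    Function.Injective γ := by
  obtain ⟨m, rfl⟩ := Nat.exists_eq_succ_of_ne_zero hl.ne'
  exact Function.LeftInverse.injective (g := γ^[m]) (congrFun h)

theorem index_fx_le (h2 : ∀ a : T, a ^ 2 = 1) {γ : T →* T} {l : ℕ} (hl : l.Prime) (h3 : l ≠ 3)
    (h : γ^[l] = id) (hT : Nat.card T ≤ 4 ∨ (Nat.card T = 8 ∧ ∃ a, a ≠ 1 ∧ γ a = a)) :
    (fx γ).index ≤ 2 := by
  have hm := (fx γ).index_mul_card
  have hpos : 0 < Nat.card (fx γ) := Nat.card_pos
  rcases eq_or_ne l 2 with rfl | hl2
  · let δ : T →* T := MonoidHom.id T * γ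
    have hk : δ.ker = fx γ := by
      ext a
      simp only [δ, MonoidHom.mem_ker, MonoidHom.mul_apply, MonoidHom.id_apply, mem_fx]
      rw [mul_eq_one_iff_inv_eq, inv_eq_of_mul_eq_one_right (by rw [← sq, h2]), eq_comm]
    have hr : δ.range ≤ fx γ := by
      rintro _ ⟨a, rfl⟩
      have := congrFun h a
      simp only [Function.iterate_succ, Function.iterate_zero, Function.comp_apply, id] at this
      simp [δ, this, mul_comm]
    have h1 := card_le_of_le hr
    rw [← index_ker, hk] at h1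
    by_contra H
    have : 3 * 3 ≤ (fx γ).index * Nat.card (fx γ) := Nat.mul_le_mul (by omega) (by omega)
    omega
  · haveI := Fact.mk hl
    classical
    haveI := Fintype.ofFinite T
    have h5 : 5 ≤ l := hl.five_le_of_ne_two_of_ne_three hl2 h3
    have e := Equiv.Perm.card_fixedPoints_modEq (f := (γ : T → T)) (p := l) (n := 1)
      (by rw [pow_one]; exact h)
    have e2 : Fintype.card (Function.fixedPoints (γ : T → T)) = Nat.card (fx γ) := by
      rw [← Nat.card_eq_fintype_card]; rfl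
    rw [e2, ← Nat.card_eq_fintype_card] at e
    have hd := (Nat.modEq_iff_dvd' (Nat.le_of_dvd Nat.card_pos (card_subgroup_dvd_card _))).1 e.symm
    by_contra H
    rcases hT with hT | ⟨hT, a, ha, ha'⟩
    · have : Nat.card (fx γ) = 1 := by nlinarith
      have := Nat.le_of_dvd (by rw [← hm, this]; omega) hd
      omega
    · have h1 : 1 < Nat.card (fx γ) := (one_lt_card_iff_ne_bot _).2 fun hb =>
        ha (mem_bot.1 (hb ▸ mem_fx.2 ha'))
      have h2 : Nat.card (fx γ) = 2 := by nlinarith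
      rw [hT, h2] at hd
      have := Nat.le_of_dvd (by norm_num) hd
      interval_cases l
      · omega
      · exact absurd hl (by norm_num)

theorem exists_transvection (h2 : ∀ a : T, a ^ 2 = 1) {γ : T →* T} (hγ : Function.Injective γ)
    (h : (fx γ).index ≤ 2) : ∃ u, γ u = u ∧ (γ ≠ MonoidHom.id T → u ≠ 1) ∧
      ∀ a, a ∉ fx γ → γ a = u * a := by
  have hsq : ∀ b : T, b * b = 1 := fun b => by rw [← sq, h2]
  by_cases h1 : ∀ a, a ∈ fx γ
  · exact ⟨1, map_one _, fun h => absurd (MonoidHom.ext h1) h, fun a ha => absurd (h1 a) ha⟩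
  push Not at h1
  obtain ⟨b, hb⟩ := h1
  have i2 : (fx γ).index = 2 := by
    have := index_eq_one.not.2 fun e : fx γ = ⊤ => hb (e ▸ mem_top b)
    have := (fx γ).index_ne_zero_of_finite
    omega
  have key : ∀ a, a ∉ fx γ → γ a = γ b * b * a := fun a ha => by
    have := mem_fx.1 ((mul_mem_iff_of_index_two i2).2 (iff_of_false ha hb))
    rw [map_mul] at this
    calc γ a = γ a * γ b * γ b := by rw [mul_assoc, hsq, mul_one]
      _ = _ := by rw [this]; ac_rfl
  refine ⟨γ b * b, ?_, fun _ e => hb ?_, key⟩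
  · have : γ b ∉ fx γ := fun e => hb (hγ e)
    rw [map_mul, key _ this, mul_assoc, hsq, mul_one]
  · rw [mem_fx, eq_inv_of_mul_eq_one_left e, inv_eq_of_mul_eq_one_right (hsq b)]

theorem transvection_pow (h2 : ∀ a : T, a ^ 2 = 1) {γ γ' : T →* T} (hγ : Function.Injective γ)
    (h : (fx γ).index ≤ 2) (hγ' : Function.Injective γ') (h' : (fx γ').index ≤ 2) :
    (γ ∘ γ')^[12] = id := by
  have hsq : ∀ b : T, b * b = 1 := fun b => by rw [← sq, h2]
  have hsq' : ∀ b c : T, b * (b * c) = c := fun b c => by rw [← mul_assoc, hsq, one_mul]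
  obtain ⟨u, hu, -, e⟩ := exists_transvection h2 hγ h
  obtain ⟨v, hv, -, e'⟩ := exists_transvection h2 hγ' h'
  have d : ∀ a, γ a = a ∨ γ a = u * a := fun a => (em _).imp id (e a)
  have d' : ∀ a, γ' a = a ∨ γ' a = v * a := fun a => (em _).imp id (e' a)
  let c : Monoid.End T := γ.comp γ'
  have hc : ∀ n a, (γ ∘ γ')^[n] a = (c ^ n) a := fun n a => by
    rw [Monoid.End.coe_pow]; rfl
  have h6 : (c ^ 6) u = u ∧ (c ^ 6) v = v := by
    rw [← hc, ← hc]
    rcases d v with h1 | h1 <;> rcases d' u with h2 | h2 <;>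
      simp [Function.iterate_succ, hu, hv, h1, h2, hsq, hsq', mul_comm, mul_left_comm]
  have hI : ∀ i ∈ closure {u, v}, (c ^ 6) i = i := fun i hi =>
    (closure_le (fx (c ^ 6))).2 (by rintro _ (rfl | rfl); exacts [h6.1, h6.2]) hi
  have hu' : u ∈ closure {u, v} := Subgroup.subset_closure (by simp)
  have hv' : v ∈ closure {u, v} := Subgroup.subset_closure (by simp)
  have hn : ∀ n a, (γ ∘ γ')^[n] a * a ∈ closure {u, v} := fun n a => by
    induction n with
    | zero => simp [hsq, one_mem]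
    | succ n ih =>
      rw [Function.iterate_succ_apply', Function.comp_apply]
      rcases d' ((γ ∘ γ')^[n] a) with h1 | h1 <;> rcases d (γ' ((γ ∘ γ')^[n] a)) with h2 | h2 <;>
        rw [h2, h1] <;> simp only [mul_assoc, mul_mem, hu', hv', ih]
  funext a
  have e1 := hI _ (hn 6 a)
  rw [hc, map_mul] at e1
  rw [hc, show 12 = 6 + 6 from rfl, pow_add, id]
  exact mul_right_cancel (b := (c ^ 6) a) (e1.trans (mul_comm _ _))

theorem exists_col3 (h2 : ∀ a : T, a ^ 2 = 1) : ∃ (H : Subgroup T) (Y : Set T), 1 ∉ Y ∧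
    4 * Y.ncard < Nat.card T ∧ (∀ τ, (∀ a ∈ H, a ∉ Y → τ * a ∈ H ∧ τ * a ∉ Y) → τ = 1) ∧
    closure {a | a ∈ H ∧ a ∉ Y ∧ a ≠ 1} = H ∧
    (∀ (γ : T →* T) t, (∀ a ∈ H, a ∉ Y → a ≠ 1 → γ a * t ∈ H) → t ∈ Y → t ∈ H) ∧
    ∀ (γ : T →* T) (l : ℕ), l.Prime → l ≠ 3 → γ^[l] = id → (∀ a ∈ H, γ a ∈ H) →
      (∀ a ∈ Y, γ a ∈ Y) → (fx γ).index ≤ 2 := by
  classical
  have hsq : ∀ b : T, b * b = 1 := fun b => by rw [← sq, h2]
  by_cases hT : Nat.card T ≤ 4
  · exact ⟨⊥, ∅, by simp, by simp, fun τ h => by simpa using h 1 (one_mem _),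
      le_bot_iff.1 ((closure_le _).2 fun a ha => ha.1), by simp,
      fun γ l hl h3 h _ _ => index_fx_le h2 hl h3 h (Or.inl hT)⟩
  obtain ⟨k₀, -, -, -, -, -, hk₀⟩ := exists_frame (r := 2) h2
  obtain ⟨H, hH⟩ := Sylow.exists_subgroup_card_pow_prime (G := T) 2 (n := 3) (by
    rw [hk₀] at hT ⊢
    refine pow_dvd_pow 2 ?_
    by_contra H
    exact hT (Nat.pow_le_pow_right two_pos (show k₀ ≤ 2 by omega)))
  have ex : ∀ s : Finset T, s.card < 8 → ∃ a ∈ H, a ∉ s := fun s hs => by
    by_contra h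
    push Not at h
    have := Set.ncard_le_ncard (s := (H : Set T)) (t := s) h
    rw [Set.ncard_coe_finset, ← Nat.card_coe_set_eq] at this
    exact absurd (hH.symm.trans_le this) (by omega)
  obtain ⟨h₀, m0, n0⟩ := ex {1} (by simp)
  obtain ⟨a, ma, na⟩ := ex {1, h₀} (Finset.card_le_two.trans_lt (by norm_num))
  obtain ⟨b, mb, nb⟩ := ex {1, h₀, a, a * h₀} (Finset.card_le_four.trans_lt (by norm_num))
  simp only [Finset.mem_insert, Finset.mem_singleton, not_or] at n0 na nb
  obtain ⟨k, c, hk, c1, s0, s1, s2, hcl, -, rig⟩ := exists_rc4 (T := T ⧸ H) (r := 2) fun x => by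
    obtain ⟨x, rfl⟩ := QuotientGroup.mk_surjective x
    rw [← QuotientGroup.mk_pow, h2, QuotientGroup.mk_one]
  let P : Fin 4 → Finset T := ![{1}, {1, a, b}, {1, a}, ∅]
  have PH : ∀ i, ∀ z ∈ P i, z ∈ H := fun i z hz => by
    fin_cases i <;> simp [P] at hz <;> rcases hz with rfl | rfl | rfl <;> simp [ma, mb, one_mem]
  have Pc : ∀ i, (P i).card = ![1, 3, 2, 0] i := fun i => by
    fin_cases i <;> simp [P, Finset.card_insert_of_notMem, Ne.symm na.1, Ne.symm nb.1,
      Ne.symm nb.2.2.1]
  let F : T ⧸ H → Finset T := fun x => (P (c x)).image (· * x.out)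
  have Fc : ∀ x, (F x).card = ![1, 3, 2, 0] (c x) := fun x => by
    rw [← Pc, Finset.card_image_of_injective _ (mul_left_injective _)]
  have Fm : ∀ x, ∀ z ∈ F x, (z : T ⧸ H) = x := fun x z hz => by
    obtain ⟨y, hy, rfl⟩ := Finset.mem_image.1 hz
    rw [QuotientGroup.mk_mul, (QuotientGroup.eq_one_iff y).2 (PH _ _ hy), one_mul,
      QuotientGroup.out_eq']
  have FH : ∀ z ∈ H, z ∉ F z := fun z hz h => by
    have := Fc z
    rw [(QuotientGroup.eq_one_iff z).2 hz] at h this
    rw [c1] at this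
    rw [Finset.card_eq_zero.1 this] at h
    exact Finset.notMem_empty _ h
  have YH : ∀ z ∈ H, (z ∈ insert h₀ {z : T | z ∈ F z} ↔ z = h₀) := fun z hz =>
    ⟨fun h => h.resolve_right (FH z hz), Or.inl⟩
  refine ⟨H, insert h₀ {z | z ∈ F z}, (YH 1 (one_mem _)).not.2 (Ne.symm n0), ?_, fun τ h => ?_,
    le_antisymm ((closure_le _).2 fun z hz => hz.1) fun z hz => ?_, fun γ t h _ => ?_,
    fun γ l hl h3 h hγH hγY => ?_⟩
  · have hsub : {z : T | z ∈ F z} ⊆ (Quotient.out '' {x | c x = 0} ∪ (Quotient.out '' {x | c x = 1}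
        ∪ ((a * ·.out) '' {x | c x = 1} ∪ (b * ·.out) '' {x | c x = 1}))) ∪
        (Quotient.out '' {x | c x = 2} ∪ (a * ·.out) '' {x | c x = 2}) := by
      intro z hz
      obtain ⟨y, hy, e⟩ := Finset.mem_image.1 hz
      generalize (z : T ⧸ H) = x at hy e
      subst e
      have : c x = 0 ∨ c x = 1 ∨ c x = 2 ∨ c x = 3 := by generalize c x = i; revert i; decide
      rcases this with e | e | e | e <;> simp only [e, P] at hy <;> simp at hy
      · exact Or.inl (Or.inl ⟨x, e, by simp [hy]⟩)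
      · rcases hy with rfl | rfl | rfl
        · exact Or.inl (Or.inr (Or.inl ⟨x, e, by simp⟩))
        · exact Or.inl (Or.inr (Or.inr (Or.inl ⟨x, e, rfl⟩)))
        · exact Or.inl (Or.inr (Or.inr (Or.inr ⟨x, e, rfl⟩)))
      · rcases hy with rfl | rfl
        · exact Or.inr (Or.inl ⟨x, e, by simp⟩)
        · exact Or.inr (Or.inr ⟨x, e, rfl⟩)
    have i1 := (Set.ncard_le_ncard hsub).trans ((Set.ncard_union_le _ _).trans (add_le_add
      ((Set.ncard_union_le _ _).trans (add_le_add ((Set.ncard_image_le (Set.toFinite _)).trans s0)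
        ((Set.ncard_union_le _ _).trans (add_le_add ((Set.ncard_image_le (Set.toFinite _)).trans s1)
          ((Set.ncard_union_le _ _).trans (add_le_add ((Set.ncard_image_le (Set.toFinite _)).trans s1)
            ((Set.ncard_image_le (Set.toFinite _)).trans s1)))))))
      ((Set.ncard_union_le _ _).trans (add_le_add ((Set.ncard_image_le (Set.toFinite _)).trans s2)
        ((Set.ncard_image_le (Set.toFinite _)).trans s2)))))
    have i2 := Set.ncard_insert_le h₀ {z : T | z ∈ F z}
    have i3 : ∀ k : ℕ, 4 * (min 1 k + 5 * (k - 1) + 1) < 2 ^ k * 8 := fun k => by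
      induction k with
      | zero => simp
      | succ k ih => rcases k with _ | _ | k <;> simp [pow_succ] at ih ⊢; omega
    have i4 := H.card_eq_card_quotient_mul_card_subgroup
    rw [hk, hH] at i4
    have := i3 k
    omega
  · by_contra h1
    have m := (h 1 (one_mem _) ((YH 1 (one_mem _)).not.2 (Ne.symm n0))).1
    rw [mul_one] at m
    refine (h (τ * h₀) (mul_mem m m0) ((YH _ (mul_mem m m0)).not.2 (by simpa using h1))).2 ?_
    rw [← mul_assoc, hsq, one_mul]
    exact Or.inl rfl
  · have ha : a ∈ closure {a | a ∈ H ∧ a ∉ insert h₀ {z : T | z ∈ F z} ∧ a ≠ 1} :=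
      Subgroup.subset_closure ⟨ma, (YH a ma).not.2 na.2, na.1⟩
    by_cases e1 : z = 1
    · rw [e1]; exact one_mem _
    by_cases e0 : z = h₀
    · have hb : a * h₀ ∈ closure {a | a ∈ H ∧ a ∉ insert h₀ {z : T | z ∈ F z} ∧ a ≠ 1} :=
        Subgroup.subset_closure ⟨mul_mem ma m0,
          (YH _ (mul_mem ma m0)).not.2 (by simpa using na.1), fun e => na.2 (by
            rw [eq_inv_of_mul_eq_one_left e, inv_eq_of_mul_eq_one_right (hsq _)])⟩
      have := mul_mem ha hb
      rw [← mul_assoc, hsq, one_mul] at this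
      rw [e0]; exact this
    · exact Subgroup.subset_closure ⟨hz, (YH z hz).not.2 e0, e1⟩
  · have e1 := h a ma ((YH a ma).not.2 na.2) na.1
    have e2 := h b mb ((YH b mb).not.2 nb.2.1) nb.1
    have e3 := h (a * b) (mul_mem ma mb) ((YH _ (mul_mem ma mb)).not.2 fun e => nb.2.2.2 (by
      rw [← e, ← mul_assoc, hsq, one_mul])) fun e => nb.2.2.1 (by
        rw [eq_inv_of_mul_eq_one_right e, inv_eq_of_mul_eq_one_right (hsq _)])
    have := mul_mem (mul_mem e1 e2) e3
    rwa [show γ a * t * (γ b * t) * (γ (a * b) * t) = γ a * γ a * (γ b * γ b) * (t * t) * t by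
      rw [map_mul]; ac_rfl, hsq (γ a), hsq (γ b), hsq t, one_mul, one_mul, one_mul] at this
  · have hγ := inj_of_iterate hl.pos h
    have hH' : ∀ z, γ z ∈ H → z ∈ H := fun z hz => by
      have := (Set.Finite.injOn_iff_bijOn_of_mapsTo (Set.toFinite (H : Set T)) hγH).1 hγ.injOn
      obtain ⟨y, hy, e⟩ := this.surjOn hz
      exact hγ e ▸ hy
    let γ' : T ⧸ H →* T ⧸ H := QuotientGroup.map H H γ hγH
    have hF : ∀ x, ∀ z ∈ F x, γ z ∈ F (γ' x) := fun x z hz => by
      have e := Fm x z hz
      subst e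
      exact (hγY z (Or.inr hz)).resolve_left fun e => FH z (hH' z (e ▸ m0)) hz
    have hle : ∀ x, (F x).card ≤ (F (γ' x)).card := fun x =>
      Finset.card_le_card_of_injOn γ (hF x) hγ.injOn
    have hit : γ'^[l] = id := funext fun x => by
      obtain ⟨x, rfl⟩ := QuotientGroup.mk_surjective x
      have : ∀ n, γ'^[n] (x : T ⧸ H) = (γ^[n] x : T) := fun n => by
        induction n with
        | zero => rfl
        | succ n ih => rw [Function.iterate_succ_apply', ih, Function.iterate_succ_apply']; rfl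
      rw [this, h]; rfl
    have hγ' := inj_of_iterate hl.pos hit
    have heq : ∀ x, (F x).card = (F (γ' x)).card := by
      haveI := Fintype.ofFinite (T ⧸ H)
      have := (Finset.sum_eq_sum_iff_of_le (s := Finset.univ) fun x _ => hle x).1
        ((Finite.injective_iff_bijective.1 hγ').sum_comp fun x => (F x).card).symm
      exact fun x => this x (Finset.mem_univ _)
    have hid := rig γ' hγ' fun x => by
      have := heq x
      rw [Fc, Fc] at this
      generalize c x = i at this
      generalize c (γ' x) = j at this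
      revert i j; decide
    have htop : fx γ ⊔ H = ⊤ := by
      have : (fx γ).map (QuotientGroup.mk' H) = ⊤ := by
        rw [eq_top_iff, ← hcl, closure_le]
        intro x hx
        have hb := (Set.Finite.injOn_iff_bijOn_of_mapsTo (F x).finite_toSet
          (fun z hz => by simpa [hid] using hF x z hz)).1 hγ.injOn
        refine ⟨∏ z ∈ F x, z, ?_, ?_⟩
        · change γ _ = _
          rw [map_prod]
          exact Finset.prod_nbij γ hb.mapsTo hb.injOn hb.surjOn fun _ _ => rfl
        · rw [map_prod, Finset.prod_congr rfl (g := fun _ => x) (fun z hz => (QuotientGroup.mk'_apply H z).trans (Fm x z hz)), Finset.prod_const, Fc]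
          obtain ⟨x, rfl⟩ := QuotientGroup.mk_surjective x
          rcases hx with hx | hx <;> rw [hx]
          · simp
          · change (x : T ⧸ H) ^ 3 = x
            rw [← QuotientGroup.mk_pow, pow_succ, h2, one_mul]
      rw [← QuotientGroup.ker_mk' H, ← comap_map_eq, this, comap_top]
    have := index_fx_le (T := H) (fun z => Subtype.ext (h2 z))
      (γ := (γ.comp H.subtype).codRestrict H fun z => hγH z z.2) hl h3 (funext fun z => by
        have : ∀ n, (((γ.comp H.subtype).codRestrict H fun z => hγH z z.2)^[n] z : T) = γ^[n] z :=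
          fun n => by
          induction n with
          | zero => rfl
          | succ n ih => rw [Function.iterate_succ_apply', Function.iterate_succ_apply', ← ih]; rfl
        exact Subtype.ext (by rw [this, h]; rfl))
      (Or.inr ⟨hH, ⟨h₀, m0⟩, fun e => n0 (congrArg Subtype.val e),
        Subtype.ext ((YH _ (hγH _ m0)).1 (hγY _ (Or.inl rfl)))⟩)
    rw [← relIndex_top_right, ← htop, relIndex_sup_left]
    convert this using 1
    unfold relIndex
    congr 1
    ext z
    rw [mem_subgroupOf, mem_fx, mem_fx, Subtype.ext_iff]; rfl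

end Cfsg.Bs

set_option linter.all false in
theorem Cfsg.Rz.Bs_Comb2_0 : True := by
  have := @_root_.Cfsg.Bs.fx.eq_def.{0}
  have := @_root_.Cfsg.Bs.fx.eq_1.{0}
  have := @_root_.Cfsg.Bs.fx.fun_cases
  trivial
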