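import Cfsg.Agent.Bs.Dual

/-! # The monomial decomposition attached to a frame -/

set_option autoImplicit false
set_option linter.unusedSectionVars false

namespace Cfsg.Bs

open Subgroup
open scoped commutatorElement

variable {p : ℕ} [Fact p.Prime] {G V : Type*} [Group G] [Finite G] [AddCommGroup V]
  [Module (ZMod p) V] [DistribMulAction G V] {r : ℕ} {E D A : Subgroup G}

/-- averaging over the subgroup `D` -/
noncomputable def av (p : ℕ) [Fact p.Prime] [Module (ZMod p) V] (D : Subgroup G) : V →+ V :=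
  haveI := Fintype.ofFinite D
  (Nat.card D : ZMod p)⁻¹ • ∑ d : D, DistribSMul.toAddMonoidHom V (d : G)

theorem av_apply [Fintype D] (v : V) :
    av p D v = (Nat.card D : ZMod p)⁻¹ • ∑ d : D, (d : G) • v := by
  unfold av
  rw [Subsingleton.elim (Fintype.ofFinite D) inferInstance]
  simp [AddMonoidHom.finsetSum_apply]

theorem card_cast_ne_zero (hp : ¬ p ∣ Nat.card G) (D : Subgroup G) : (Nat.card D : ZMod p) ≠ 0 :=
  fun h => hp (((ZMod.natCast_eq_zero_iff _ _).1 h).trans (card_subgroup_dvd_card D))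

theorem av_smul_of_mem {d : G} (hd : d ∈ D) (v : V) : av p D (d • v) = av p D v := by
  haveI := Fintype.ofFinite D
  rw [av_apply, av_apply, ← Equiv.sum_comp (Equiv.mulRight (⟨d, hd⟩ : D)) fun d => (d : G) • v]
  simp [mul_smul]

theorem smul_av_of_mem {d : G} (hd : d ∈ D) (v : V) : d • av p D v = av p D v := by
  haveI := Fintype.ofFinite D
  rw [av_apply, smul_zmod, Finset.smul_sum,
    ← Equiv.sum_comp (Equiv.mulLeft (⟨d, hd⟩ : D)) fun d => (d : G) • v]
  simp [mul_smul]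

theorem av_of_fix (hp : ¬ p ∣ Nat.card G) {v : V} (hv : ∀ d ∈ D, d • v = v) : av p D v = v := by
  haveI := Fintype.ofFinite D
  rw [av_apply, Finset.sum_congr rfl fun (d : D) _ => hv d d.2, Finset.sum_const, Finset.card_univ,
    ← Nat.card_eq_fintype_card, ← Nat.cast_smul_eq_nsmul (ZMod p), smul_smul,
    inv_mul_cancel₀ (card_cast_ne_zero hp D), one_smul]

theorem av_smul {g : G} (hg : g ∈ normalizer (D : Set G)) (v : V) :
    av p D (g • v) = g • av p D v := by
  haveI := Fintype.ofFinite D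
  rw [av_apply, av_apply, smul_zmod, Finset.smul_sum (r := g)]
  congr 1
  refine (Fintype.sum_bijective (fun d : D => (⟨g * d * g⁻¹, (mem_normalizer_iff.1 hg _).1 d.2⟩ : D))
    (Finite.injective_iff_bijective.1 fun a b e => Subtype.ext
      (mul_left_cancel (mul_right_cancel (congrArg Subtype.val e))))
    (fun d => g • (d : G) • v) (fun d => (d : G) • g • v) fun d => ?_).symm
  simp [mul_smul]

theorem Semireg.eq_zero (hZ : Semireg (center G) V) {a b : G} (h : ⁅a, b⁆ ∈ center G)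
    (hn : ¬ Commute a b) {v : V} (hv : ⁅a, b⁆ • v = v) : v = 0 :=
  (hZ _ h v hv).resolve_left (commutatorElement_eq_one_iff_commute.not.2 hn)

theorem av_eq_zero (hZ : Semireg (center G) V) {d τ : G} (hd : d ∈ D) (h : ⁅d, τ⁆ ∈ center G)
    (hn : ¬ Commute d τ) {w : V} (hw : d • w = w) : av p D (τ • w) = 0 := by
  refine hZ.eq_zero h hn ?_
  rw [← av_smul (center_le_normalizer _ h), ← av_smul_of_mem hd (τ • w), smul_smul, smul_smul]
  conv_lhs => rw [← hw, smul_smul]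
  simp [commutatorElement_def]

theorem eq_top_of_ncard {T : Type*} [Group T] [Finite T] {K : Subgroup T}
    (h : 2 * (K : Set T)ᶜ.ncard < Nat.card T) : K = ⊤ := by
  by_contra hn
  obtain ⟨t, ht⟩ : ∃ t, t ∉ K := by simpa [eq_top_iff'] using hn
  have h1 : (K : Set T).ncard ≤ (K : Set T)ᶜ.ncard :=
    Set.ncard_le_ncard_of_injOn (t * ·) (fun a ha e => ht (by simpa using mul_mem e (inv_mem ha)))
      (mul_right_injective t).injOn
  have := Set.ncard_add_ncard_compl (K : Set T)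
  omega

theorem conj_mem_cent (hE : E.Normal) {g c : G} (hg : g ∈ normalizer (D : Set G))
    (hc : c ∈ E ⊓ centralizer (D : Set G)) : g * c * g⁻¹ ∈ E ⊓ centralizer (D : Set G) := by
  refine ⟨hE.conj_mem c hc.1 g, fun d hd => ?_⟩
  have := hc.2 _ ((mem_normalizer_iff.1 (inv_mem hg) d).1 hd)
  calc d * (g * c * g⁻¹) = g * (g⁻¹ * d * g⁻¹⁻¹ * c) * g⁻¹ := by group
    _ = _ := by rw [this]; group

/-- the stabiliser in `E` of a vector fixed by `g` is normalised by `g` -/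
theorem mem_normalizer_of_fix (hE : E.Normal) (hD : D ≤ E) {x : V} (h1 : ∀ d ∈ D, d • x = x)
    (h2 : ∀ e ∈ E, e • x = x → e ∈ D) {g : G} (hg : g • x = x) : g ∈ normalizer (D : Set G) := by
  have key : ∀ g : G, g • x = x → ∀ d ∈ D, g * d * g⁻¹ ∈ D := fun g hg d hd =>
    h2 _ (hE.conj_mem d (hD hd) g) (by rw [mul_smul, mul_smul, inv_smul_eq_iff.2 hg.symm, h1 d hd, hg])
  refine mem_normalizer_iff.2 fun d => ⟨key g hg d, fun h => ?_⟩
  simpa [mul_assoc] using key g⁻¹ (inv_smul_eq_iff.2 hg.symm) _ h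

namespace Frame

theorem mem_cent (F : Frame r E D A) {d : G} (hd : d ∈ D) : d ∈ E ⊓ centralizer (D : Set G) :=
  ⟨F.DE hd, fun d' hd' => commutatorElement_eq_one_iff_mul_comm.1 (F.DZ _ (mul_mem (mul_mem
    (mul_mem hd' hd) (inv_mem hd')) (inv_mem hd)) (F.sym.comm _ (F.DE hd') _ (F.DE hd)))⟩

theorem eq_one (F : Frame r E D A) {d : G} (hd : d ∈ D) (h : ∀ a ∈ A, Commute d a) : d = 1 := by
  refine F.DZ d hd (F.sym.cent d (F.DE hd) fun e he => ?_)
  obtain ⟨a, ha, c, hc, rfl⟩ := F.span e he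
  exact (h a ha).mul_right (hc.2 d hd)

theorem comp_sum (F : Frame r E D A) (hp : ¬ p ∣ Nat.card G) (hZ : Semireg (center G) V)
    [Fintype A] {w : A → V} (hw : ∀ τ, ∀ d ∈ D, d • w τ = w τ) (σ : A) :
    av p D ((σ : G)⁻¹ • ∑ τ : A, (τ : G) • w τ) = w σ := by
  rw [Finset.smul_sum, map_sum, Finset.sum_eq_single σ (fun τ _ hτ => ?_) (by simp)]
  · rw [inv_smul_smul, av_of_fix hp (hw σ)]
  · have hm : (σ : G)⁻¹ * τ ∈ A := mul_mem (inv_mem σ.2) τ.2
    obtain ⟨d, hd, hn⟩ : ∃ d ∈ D, ¬ Commute d ((σ : G)⁻¹ * τ) := by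
      by_contra H
      push Not at H
      exact hτ (Subtype.ext (inv_mul_eq_one.1 (F.disj _ hm H)).symm)
    rw [smul_smul, av_eq_zero hZ hd (F.sym.comm _ (F.DE hd) _ (F.AE hm)) hn (hw τ d hd)]

theorem sum_comp (F : Frame r E D A) (hp : ¬ p ∣ Nat.card G) (hZ : Semireg (center G) V)
    [Fintype A] (v : V) : ∑ τ : A, (τ : G) • av p D ((τ : G)⁻¹ • v) = v := by
  haveI := Fintype.ofFinite D
  have key : ∀ v : V, ∑ τ : A, (τ : G) • av p D ((τ : G)⁻¹ • v) =
      (Nat.card D : ZMod p)⁻¹ • (Nat.card A : ZMod p) • v := fun v => by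
    simp only [av_apply, smul_zmod, Finset.smul_sum]
    rw [Finset.sum_comm]
    simp only [← Finset.smul_sum (r := (Nat.card D : ZMod p)⁻¹)]
    rw [Finset.sum_eq_single 1 (fun d _ hd => ?_) (by simp)]
    · simp [Nat.cast_smul_eq_nsmul]
    · obtain ⟨a, ha, hn⟩ : ∃ a ∈ A, ¬ Commute (d : G) a := by
        by_contra H
        push Not at H
        exact hd (Subtype.ext (F.eq_one d.2 H))
      have hc : ∀ a ∈ A, ⁅a, (d : G)⁆ ∈ center G := fun a ha => F.sym.comm _ (F.AE ha) _ (F.DE d.2)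
      refine hZ.eq_zero (hc a ha) (fun e => hn e.symm) ?_
      rw [Finset.smul_sum, ← Equiv.sum_comp (Equiv.mulRight (⟨a, ha⟩ : A))
        fun τ => (τ : G) • (d : G) • (τ : G)⁻¹ • v]
      refine Finset.sum_congr rfl fun τ _ => ?_
      have e : ∀ a : G, a • (d : G) • a⁻¹ • v = ⁅a, (d : G)⁆ • (d : G) • v := fun a => by
        simp [commutatorElement_def, mul_smul]
      rw [e, e, Equiv.coe_mulRight, coe_mul, cm_left (hc a ha), mul_smul]
  have h := key (v - ∑ τ : A, (τ : G) • av p D ((τ : G)⁻¹ • v))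
  rw [Finset.sum_eq_zero fun τ _ => by
    rw [smul_sub, map_sub, F.comp_sum hp hZ fun τ d hd => smul_av_of_mem hd _, sub_self, smul_zero],
    eq_comm, smul_eq_zero, smul_eq_zero, sub_eq_zero] at h
  exact ((h.resolve_left (inv_ne_zero (card_cast_ne_zero hp D))).resolve_left
    (card_cast_ne_zero hp A)).symm

theorem exists_gamma (F : Frame r E D A) {g : G} (hg : g ∈ normalizer (D : Set G)) :
    ∃ γ : A →* A, Function.Injective γ ∧
      ∀ τ : A, (γ τ : G)⁻¹ * (g * τ * g⁻¹) ∈ E ⊓ centralizer (D : Set G) := by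
  have hm : ∀ τ : A, g * τ * g⁻¹ ∈ E := fun τ => F.sym.normal.conj_mem _ (F.AE τ.2) g
  choose a ha c hc e using fun τ => F.span _ (hm τ)
  have h1 : ∀ τ : A, (a τ)⁻¹ * (g * τ * g⁻¹) = c τ := fun τ => by rw [e, inv_mul_cancel_left]
  refine ⟨MonoidHom.mk' (fun τ => ⟨a τ, ha τ⟩) fun τ σ => Subtype.ext ?_,
    (injective_iff_map_eq_one _).2 fun τ h => Subtype.ext (F.disj _ τ.2 ?_), fun τ => h1 τ ▸ hc τ⟩
  · change a (τ * σ) = a τ * a σ
    refine (inv_mul_eq_one.1 (F.disj _ (mul_mem (inv_mem (ha (τ * σ))) (mul_mem (ha τ) (ha σ))) ?_))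
    have h2 : a (τ * σ) * c (τ * σ) = a τ * c τ * (a σ * c σ) := by
      rw [← e, ← e, ← e, coe_mul]; group
    have h3 : (a (τ * σ))⁻¹ * (a τ * a σ) =
        c (τ * σ) * (c σ)⁻¹ * ((a σ)⁻¹ * (c τ)⁻¹ * (a σ)⁻¹⁻¹) := by
      rw [← mul_inv_cancel_right (a (τ * σ)) (c (τ * σ)), h2]; group
    rw [h3]
    exact (mul_mem (mul_mem (hc _) (inv_mem (hc _))) ((mem_normalizer_iff.1
      (F.sym.le_normalizer (inv_mem (F.AE (ha σ)))) _).1 (inv_mem (hc τ)))).2
  · have h2 : a τ = 1 := congrArg Subtype.val h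
    have := conj_mem_cent F.sym.normal (inv_mem hg) (hc τ)
    rw [← h1, h2] at this
    simpa [mul_assoc] using this.2

theorem comp_smul {g σ τ : G} (hg : g ∈ normalizer (D : Set G))
    (h : σ⁻¹ * (g * τ * g⁻¹) ∈ E ⊓ centralizer (D : Set G)) (v : V) :
    av p D (σ⁻¹ • g • v) = (σ⁻¹ * (g * τ * g⁻¹)) • g • av p D (τ⁻¹ • v) := by
  rw [← av_smul hg, ← av_smul (centralizer_le_normalizer _ h.2)]
  simp [mul_smul]

theorem conj_eq (F : Frame r E D A) {g : G} {γ : A →* A} (hγ : Function.Injective γ)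
    {S : Set A} (hS : 4 * S.ncard < Nat.card A)
    (h : ∀ τ ∉ S, (γ τ : G)⁻¹ * (g * τ * g⁻¹) ∈ D) (τ : A) : g * τ * g⁻¹ = γ τ := by
  have h1 : ∀ τ ∉ S, (γ τ : G)⁻¹ * (g * τ * g⁻¹) = 1 := fun τ hτ => by
    have : (centralizer {(γ τ : G)⁻¹ * (g * τ * g⁻¹)}).comap (A.subtype.comp γ) = ⊤ := by
      refine eq_top_of_ncard (lt_of_le_of_lt ?_ hS)
      have := (Set.ncard_le_ncard (t := S ∪ (τ⁻¹ * ·) '' S) (s := (((centralizer
        {(γ τ : G)⁻¹ * (g * τ * g⁻¹)}).comap (A.subtype.comp γ) : Subgroup A) : Set A)ᶜ)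
        fun σ hσ => ?_).trans ((Set.ncard_union_le _ _).trans
          (add_le_add le_rfl (Set.ncard_image_le (Set.toFinite _))))
      · omega
      by_contra H
      have h2 := h σ fun e => H (Or.inl e)
      have h3 := h (τ * σ) fun e => H (Or.inr ⟨_, e, by simp⟩)
      refine hσ (mem_centralizer_singleton_iff.2 ?_)
      have h4 : ⁅(γ σ : G)⁻¹, (γ τ : G)⁻¹ * (g * τ * g⁻¹)⁆ ∈ D := by
        convert mul_mem (mul_mem h3 (inv_mem h2)) (inv_mem (h τ hτ)) using 1
        simp only [commutatorElement_def, map_mul, coe_mul]; group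
      simpa using (commutatorElement_eq_one_iff_commute.1 (F.DZ _ h4
        (F.sym.comm _ (F.AE (inv_mem (γ σ).2)) _ (F.DE (h τ hτ))))).inv_left.eq
    refine F.eq_one (h τ hτ) fun a ha => ?_
    obtain ⟨σ, e⟩ := Finite.injective_iff_surjective.1 hγ ⟨a, ha⟩
    have := mem_centralizer_singleton_iff.1 (mem_comap.1 (this ▸ mem_top σ))
    rw [MonoidHom.comp_apply, e] at this
    exact Commute.symm this
  have : ((MulAut.conj g).toMonoidHom.comp A.subtype).eqLocus (A.subtype.comp γ) = ⊤ := by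
    refine eq_top_of_ncard (lt_of_le_of_lt ?_ hS)
    have := Set.ncard_le_ncard (t := S) (s := ((((MulAut.conj g).toMonoidHom.comp A.subtype).eqLocus
      (A.subtype.comp γ) : Subgroup A) : Set A)ᶜ) fun σ hσ => by
        by_contra H
        exact hσ (inv_mul_eq_one.1 (h1 σ H)).symm
    omega
  exact (this ▸ mem_top τ : τ ∈ ((MulAut.conj g).toMonoidHom.comp A.subtype).eqLocus _)

theorem smul_eq (F : Frame r E D A) (hp : ¬ p ∣ Nat.card G) (hZ : Semireg (center G) V)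
    {g : G} (h : ∀ τ ∈ A, ∀ w : V, (∀ d ∈ D, d • w = w) → g • τ • w = τ • w) (v : V) :
    g • v = v := by
  haveI := Fintype.ofFinite A
  rw [← F.sum_comp hp hZ v, Finset.smul_sum]
  exact Finset.sum_congr rfl fun τ _ => h τ τ.2 _ fun d hd => smul_av_of_mem hd _

end Frame

end Cfsg.Bs

set_option linter.all false in
theorem Cfsg.Rz.Bs_Core_0 : True := by
  have := @_root_.Cfsg.Bs.av.eq_def.{0, 0}
  have := @_root_.Cfsg.Bs.av.eq_1.{0, 0}
  have := @_root_.Cfsg.Bs.av.fun_cases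
  trivial
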