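import Cfsg.Agent.Bs.Comb2

/-! # Base size two for coprime solvable linear groups: the definitions -/

set_option autoImplicit false

namespace Cfsg.Bs

open Subgroup
open scoped commutatorElement

/-- two points whose common stabiliser is trivial -/
def HasBase (G V : Type*) [Group G] [MulAction G V] : Prop :=
  ∃ x y : V, ∀ g : G, g • x = x → g • y = y → g = 1

/-- `U` acts semiregularly on the nonzero vectors -/
def Semireg {G : Type*} [Group G] (U : Subgroup G) (V : Type*) [AddCommGroup V]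
    [DistribMulAction G V] : Prop :=
  ∀ u ∈ U, ∀ v : V, u • v = v → u = 1 ∨ v = 0

/-- the standing hypotheses of the inductive step: a faithful solvable `p'`-group containing the
scalars, for which bases exist on all proper invariant subspaces of subgroups -/
structure Ctx (p : ℕ) [Fact p.Prime] (G V : Type*) [Group G] [AddCommGroup V] [Module (ZMod p) V]
    [DistribMulAction G V] : Prop where
  odd : p ≠ 2
  cop : ¬ p ∣ Nat.card G
  solv : Group.IsSolvable G
  faithful : ∀ g : G, (∀ v : V, g • v = v) → g = 1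
  scal : ∀ c : ZMod p, c ≠ 0 → ∃ z : G, ∀ v : V, z • v = c • v
  ih : ∀ (B : Subgroup G) (W : Submodule (ZMod p) V), W ≠ ⊤ → W ≠ ⊥ →
    (∀ b ∈ B, ∀ w ∈ W, b • w ∈ W) → ∃ x ∈ W, ∃ y ∈ W, x ≠ 0 ∧ y ≠ 0 ∧
      ∀ b ∈ B, b • x = x → b • y = y → ∀ w ∈ W, b • w = w

/-- a normal subgroup of symplectic type -/
structure Sym {G : Type*} [Group G] (r : ℕ) (E : Subgroup G) : Prop where
  prime : r.Prime
  normal : E.Normal
  comm : ∀ a ∈ E, ∀ b ∈ E, ⁅a, b⁆ ∈ center G
  pow : ∀ a ∈ E, a ^ r ∈ center G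
  exp : ∀ a ∈ E, a ^ (if r = 2 then 4 else r) = 1
  cent : ∀ a ∈ E, (∀ b ∈ E, Commute a b) → a ∈ center G
  noncent : ¬ E ≤ center G
  full : ∀ z ∈ center G, z ^ (if r = 2 then 4 else r) = 1 → z ∈ E
  core : ∀ g ∈ pCore r G, ∀ a ∈ E, ⁅g, a⁆ ∈ center G

/-- the action of `G` is automatically `ZMod p`-linear -/
theorem smul_zmod {p : ℕ} {G V : Type*} [Group G] [AddCommGroup V] [Module (ZMod p) V]
    [DistribMulAction G V] (g : G) (c : ZMod p) (v : V) : g • c • v = c • g • v :=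
  ZMod.map_smul (DistribSMul.toAddMonoidHom V g) c v

end Cfsg.Bs

set_option linter.all false in
theorem Cfsg.Rz.Bs_Defs_0 : True := by
  have := @_root_.Cfsg.Bs.Semireg.eq_def.{0, 0}
  have := @_root_.Cfsg.Bs.Semireg.eq_1.{0, 0}
  have := @_root_.Cfsg.Bs.Semireg.fun_cases
  have := @_root_.Cfsg.Bs.Ctx.mk.congr_simp.{0, 0}
  have := @_root_.Cfsg.Bs.HasBase.eq_def.{0, 0}
  have := @_root_.Cfsg.Bs.HasBase.eq_1.{0, 0}
  have := @_root_.Cfsg.Bs.HasBase.fun_cases
  have := @_root_.Cfsg.Bs.Sym.mk.congr_simp.{0}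
  trivial
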