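import Cfsg.Agent.Bs.Defs

/-! # Duality in a normal subgroup of symplectic type -/

set_option autoImplicit false
set_option linter.unusedSectionVars false

namespace Cfsg.Bs

open Subgroup
open scoped commutatorElement

variable {G : Type*} [Group G] [Finite G] {r : ℕ} {E : Subgroup G}

theorem cm_left {a b c : G} (h : ⁅b, c⁆ ∈ center G) : ⁅a * b, c⁆ = ⁅b, c⁆ * ⁅a, c⁆ := by
  have := mem_center_iff.1 h a
  calc ⁅a * b, c⁆ = a * ⁅b, c⁆ * a⁻¹ * ⁅a, c⁆ := by simp only [commutatorElement_def]; group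
    _ = _ := by rw [this, mul_inv_cancel_right]

theorem cm_right {a b c : G} (h : ⁅a, c⁆ ∈ center G) : ⁅a, b * c⁆ = ⁅a, b⁆ * ⁅a, c⁆ := by
  have := mem_center_iff.1 h b
  calc ⁅a, b * c⁆ = ⁅a, b⁆ * (b * ⁅a, c⁆ * b⁻¹) := by simp only [commutatorElement_def]; group
    _ = _ := by rw [this, mul_inv_cancel_right]

theorem cm_pow {a b : G} (h : ⁅a, b⁆ ∈ center G) (n : ℕ) : ⁅a, b ^ n⁆ = ⁅a, b⁆ ^ n := by
  induction n with
  | zero => simp
  | succ n ih => rw [pow_succ, cm_right h, ih, pow_succ]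

theorem exists_pow_eq [IsCyclic (center G)] (hr : r.Prime) {z w : G} (hz : z ∈ center G)
    (hw : w ∈ center G) (hzr : z ^ r = 1) (hwr : w ^ r = 1) (h1 : z ≠ 1) : ∃ k : ℕ, w = z ^ k := by
  classical
  haveI := Fintype.ofFinite (center G)
  haveI := Fact.mk hr
  let z' : center G := ⟨z, hz⟩
  have ho : orderOf z' = r := orderOf_eq_prime (Subtype.ext hzr) fun e => h1 (congrArg Subtype.val e)
  have hc := IsCyclic.card_pow_eq_one_le (α := center G) hr.pos
  have hs : (Finset.range r).image (z' ^ ·) ⊆ Finset.univ.filter fun a : center G => a ^ r = 1 := by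
    intro a ha
    obtain ⟨k, -, rfl⟩ := Finset.mem_image.1 ha
    simp only [Finset.mem_filter, Finset.mem_univ, true_and]
    rw [← pow_mul, mul_comm, pow_mul, ← ho, pow_orderOf_eq_one, one_pow]
  have he := Finset.eq_of_subset_of_card_le hs (by
    rw [Finset.card_image_of_injOn, Finset.card_range]
    · exact hc
    · rw [Finset.coe_range, ← ho]; exact pow_injOn_Iio_orderOf)
  have : (⟨w, hw⟩ : center G) ∈ (Finset.range r).image (z' ^ ·) := by
    rw [he]; simpa [Subtype.ext_iff] using hwr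
  obtain ⟨k, -, e⟩ := Finset.mem_image.1 this
  exact ⟨k, (congrArg Subtype.val e).symm⟩

theorem invol_eq [IsCyclic (center G)] {z w : G} (hz : z ∈ center G)
    (hw : w ∈ center G) (hzr : z ^ 2 = 1) (hwr : w ^ 2 = 1) (h1 : z ≠ 1) (h2 : w ≠ 1) : w = z := by
  obtain ⟨k, rfl⟩ := exists_pow_eq Nat.prime_two hz hw hzr hwr h1
  rw [pow_eq_pow_mod k hzr] at h2 ⊢
  rcases Nat.mod_two_eq_zero_or_one k with e | e <;> simp_all

namespace Sym

theorem cm_pow_eq_one (hE : Sym r E) {a b : G} (ha : a ∈ E) (hb : b ∈ E) : ⁅a, b⁆ ^ r = 1 := by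
  rw [← cm_pow (hE.comm a ha b hb), commutatorElement_eq_one_iff_mul_comm]
  exact mem_center_iff.1 (hE.pow b hb) a

theorem exists_commute [IsCyclic (center G)] (hE : Sym r E) {a b c : G} (ha : a ∈ E) (hb : b ∈ E)
    (hc : c ∈ E) (h : ¬ Commute a b) : ∃ k : ℕ, Commute a ((b ^ k)⁻¹ * c) := by
  obtain ⟨k, e⟩ := exists_pow_eq hE.prime (hE.comm a ha b hb) (hE.comm a ha c hc)
    (hE.cm_pow_eq_one ha hb) (hE.cm_pow_eq_one ha hc)
    (commutatorElement_eq_one_iff_commute.not.2 h)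
  rw [← cm_pow (hE.comm a ha b hb)] at e
  refine ⟨k, ?_⟩
  generalize b ^ k = u at e
  simp only [commutatorElement_def, mul_assoc, mul_right_inj] at e
  have := congrArg (fun x => a * u⁻¹ * x * c * a) e
  change _ = _
  simpa [mul_assoc] using this

theorem le_normalizer (hE : Sym r E) {D : Subgroup G} :
    E ≤ normalizer ((E ⊓ centralizer (D : Set G) : Subgroup G) : Set G) := by
  have key : ∀ e ∈ E, ∀ c ∈ E ⊓ centralizer (D : Set G), e * c * e⁻¹ ∈ E ⊓ centralizer (D : Set G) := by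
    intro e he c hc
    have : e * c * e⁻¹ = ⁅e, c⁆ * c := by simp [commutatorElement_def]
    refine ⟨hE.normal.conj_mem c hc.1 e, ?_⟩
    rw [this]
    exact mul_mem (center_le_centralizer _ (hE.comm e he c hc.1)) hc.2
  intro e he
  refine mem_normalizer_iff.2 fun c => ⟨key e he c, fun h => ?_⟩
  simpa [mul_assoc] using key e⁻¹ (inv_mem he) _ h

theorem mem_sup_iff (hE : Sym r E) {D K : Subgroup G} (hK : K ≤ E) {x : G} :
    x ∈ K ⊔ (E ⊓ centralizer (D : Set G)) ↔
      ∃ k ∈ K, ∃ c ∈ E ⊓ centralizer (D : Set G), x = k * c := by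
  rw [← SetLike.mem_coe, coe_mul_of_left_le_normalizer_right _ _ (hK.trans hE.le_normalizer)]
  exact ⟨fun ⟨k, hk, c, hc, e⟩ => ⟨k, hk, c, hc, e.symm⟩,
    fun ⟨k, hk, c, hc, e⟩ => ⟨k, hk, c, hc, e.symm⟩⟩

variable [IsCyclic (center G)] {D : Subgroup G}

theorem sep_finset (hE : Sym r E) (hD : D ≤ E) (S : Finset G) (hS : ∀ s ∈ S, s ∈ E) :
    ∀ τ ∈ E, τ ∉ closure (S : Set G) ⊔ (E ⊓ centralizer (D : Set G)) →
      ∃ d ∈ D, (∀ s ∈ S, Commute d s) ∧ ¬ Commute d τ := by
  classical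
  induction S using Finset.induction_on with
  | empty =>
    intro τ hτ hn
    by_contra H
    push Not at H
    exact hn (mem_sup_right ⟨hτ, fun d hd => H d hd (by simp)⟩)
  | insert h S _ ih =>
    intro τ hτ hn
    have hh : h ∈ E := hS h (by simp)
    replace ih := ih fun s hs => hS s (by simp [hs])
    have hle : closure (S : Set G) ⊔ (E ⊓ centralizer (D : Set G)) ≤
        closure ((insert h S : Finset G) : Set G) ⊔ (E ⊓ centralizer (D : Set G)) :=
      sup_le_sup_right (Subgroup.closure_mono (by simp)) _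
    by_cases h0 : h ∈ closure (S : Set G) ⊔ (E ⊓ centralizer (D : Set G))
    · obtain ⟨d, hd, h1, h2⟩ := ih τ hτ fun e => hn (hle e)
      refine ⟨d, hd, fun s hs => ?_, h2⟩
      rcases Finset.mem_insert.1 hs with rfl | hs
      · have : closure (S : Set G) ⊔ (E ⊓ centralizer (D : Set G)) ≤ centralizer {d} :=
          sup_le ((closure_le _).2 fun s hs => mem_centralizer_singleton_iff.2 (h1 s hs).symm)
            fun c hc => mem_centralizer_singleton_iff.2 (hc.2 d hd).symm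
        exact (mem_centralizer_singleton_iff.1 (this h0)).symm
      · exact h1 s hs
    obtain ⟨d₀, hd₀, h1, h2⟩ := ih h hh h0
    obtain ⟨k, hk⟩ := hE.exists_commute (hD hd₀) hh hτ h2
    obtain ⟨d, hd, h3, h4⟩ := ih ((h ^ k)⁻¹ * τ) (mul_mem (inv_mem (pow_mem hh k)) hτ) fun e =>
      hn (by
        simpa using mul_mem (pow_mem (mem_sup_left (Subgroup.subset_closure (show h ∈ _ by simp))) k)
          (hle e))
    obtain ⟨m, hm⟩ := hE.exists_commute hh (hD hd₀) (hD hd) fun e => h2 e.symm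
    refine ⟨(d₀ ^ m)⁻¹ * d, mul_mem (inv_mem (pow_mem hd₀ m)) hd, fun s hs => ?_, fun e => h4 ?_⟩
    · rcases Finset.mem_insert.1 hs with rfl | hs
      · exact hm.symm
      · exact ((h1 s hs).pow_left m).inv_left.mul_left (h3 s hs)
    · simpa using (hk.pow_left m).mul_left ((hm.symm.pow_right k).inv_right.mul_right e)

theorem sep (hE : Sym r E) (hD : D ≤ E) {K : Subgroup G} (hK : K ≤ E) {τ : G} (hτ : τ ∈ E)
    (hn : ∀ k ∈ K, ∀ c ∈ E ⊓ centralizer (D : Set G), τ ≠ k * c) :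
    ∃ d ∈ D, (∀ s ∈ K, Commute d s) ∧ ¬ Commute d τ := by
  obtain ⟨d, hd, h1, h2⟩ := hE.sep_finset hD (K : Set G).toFinite.toFinset
    (fun s hs => hK (by simpa using hs)) τ hτ (by
      rw [Set.Finite.coe_toFinset, closure_eq, hE.mem_sup_iff hK]
      rintro ⟨k, hk, c, hc, e⟩
      exact hn k hk c hc e)
  exact ⟨d, hd, fun s hs => h1 s (by simpa using hs), h2⟩

theorem surj (hE : Sym r E) (hD : D ≤ E) {H : Subgroup G} (hH : H ≤ E)
    (hHC : ∀ a ∈ H, a ∈ centralizer (D : Set G) → a = 1) {b : G} (hb : b ∈ E) :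
    ∃ d ∈ D, ∀ s ∈ H, Commute (d⁻¹ * b) s := by
  classical
  suffices ∀ S : Finset G, (∀ s ∈ S, s ∈ H) → ∃ d ∈ D, ∀ s ∈ S, Commute (d⁻¹ * b) s by
    simpa using this (H : Set G).toFinite.toFinset (by simp)
  intro S hS
  induction S using Finset.induction_on with
  | empty => exact ⟨1, one_mem _, by simp⟩
  | insert h S _ ih =>
    have hh : h ∈ H := hS h (by simp)
    obtain ⟨d, hd, h1⟩ := ih fun s hs => hS s (by simp [hs])
    have hcl : closure (S : Set G) ≤ H := (closure_le _).2 fun s hs => hS s (Finset.mem_insert_of_mem hs)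
    by_cases h0 : h ∈ closure (S : Set G)
    · refine ⟨d, hd, fun s hs => ?_⟩
      rcases Finset.mem_insert.1 hs with rfl | hs
      · have : closure (S : Set G) ≤ centralizer {d⁻¹ * b} :=
          (closure_le _).2 fun s hs => mem_centralizer_singleton_iff.2 (h1 s hs).symm
        exact (mem_centralizer_singleton_iff.1 (this h0)).symm
      · exact h1 s hs
    obtain ⟨d₀, hd₀, h2, h3⟩ := hE.sep hD (hcl.trans hH) (hH hh) fun k hk c hc e => h0 (by
      have := hHC c (by simpa [e] using mul_mem (inv_mem (hcl hk)) hh) hc.2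
      rw [e, this, mul_one]; exact hk)
    obtain ⟨m, hm⟩ := hE.exists_commute (hH hh) (hD hd₀) (mul_mem (inv_mem (hD hd)) hb)
      fun e => h3 e.symm
    refine ⟨d * d₀ ^ m, mul_mem hd (pow_mem hd₀ m), fun s hs => ?_⟩
    rw [mul_inv_rev, mul_assoc]
    rcases Finset.mem_insert.1 hs with rfl | hs
    · exact hm.symm
    · exact ((h2 s (Subgroup.subset_closure hs)).pow_left m).inv_left.mul_left (h1 s hs)

end Sym

/-- `D ≤ E` meets the centre trivially and `A` is an elementary abelian complement to `C_E(D)` -/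
structure Frame (r : ℕ) (E D A : Subgroup G) : Prop where
  sym : Sym r E
  DE : D ≤ E
  DZ : ∀ d ∈ D, d ∈ center G → d = 1
  AE : A ≤ E
  comm : ∀ a ∈ A, ∀ b ∈ A, Commute a b
  exp : ∀ a ∈ A, a ^ r = 1
  disj : ∀ a ∈ A, a ∈ centralizer (D : Set G) → a = 1
  span : ∀ e ∈ E, ∃ a ∈ A, ∃ c ∈ E ⊓ centralizer (D : Set G), e = a * c

theorem Sym.exists_frame [IsCyclic (center G)] {D : Subgroup G} (hE : Sym r E) (hD : D ≤ E)
    (hDZ : ∀ d ∈ D, d ∈ center G → d = 1) : ∃ A, Frame r E D A := by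
  obtain ⟨A, ⟨hAE, hc, he, hd⟩, hmax⟩ := Set.Finite.exists_maximal (Set.toFinite
    {A : Subgroup G | A ≤ E ∧ (∀ a ∈ A, ∀ b ∈ A, Commute a b) ∧ (∀ a ∈ A, a ^ r = 1) ∧
      ∀ a ∈ A, a ∈ centralizer (D : Set G) → a = 1}) ⟨⊥, by simp⟩
  refine ⟨A, hE, hD, hDZ, hAE, hc, he, hd, fun b hb => ?_⟩
  rw [← hE.mem_sup_iff hAE]
  by_contra hn
  have hDC : D ≤ E ⊓ centralizer (D : Set G) := fun d hd => ⟨hD hd, fun d' hd' =>
    commutatorElement_eq_one_iff_mul_comm.1 (hDZ _ (mul_mem (mul_mem (mul_mem hd' hd) (inv_mem hd'))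
      (inv_mem hd)) (hE.comm _ (hD hd') _ (hD hd)))⟩
  obtain ⟨b, hb, hn, hbA⟩ : ∃ b ∈ E, b ∉ A ⊔ (E ⊓ centralizer (D : Set G)) ∧ ∀ s ∈ A, Commute b s := by
    obtain ⟨d, hdD, h⟩ := hE.surj hD hAE hd hb
    refine ⟨d⁻¹ * b, mul_mem (inv_mem (hD hdD)) hb, fun e => hn ?_, h⟩
    simpa using mul_mem (mem_sup_right (hDC hdD)) e
  obtain ⟨b, hb, hn, hbA, hbr⟩ : ∃ b ∈ E, b ∉ A ⊔ (E ⊓ centralizer (D : Set G)) ∧
      (∀ s ∈ A, Commute b s) ∧ b ^ r = 1 := by
    by_cases h1 : b ^ r = 1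
    · exact ⟨b, hb, hn, hbA, h1⟩
    have h2 : r = 2 := by
      by_contra h2
      exact h1 (by simpa [h2] using hE.exp b hb)
    subst h2
    obtain ⟨d, hdD, h3, h4⟩ := hE.sep hD hAE hb fun k hk c hc e =>
      hn (e ▸ mul_mem (mem_sup_left hk) (mem_sup_right hc))
    refine ⟨b * d, mul_mem hb (hD hdD), fun e => hn ?_, fun s hs => (hbA s hs).mul_left (h3 s hs), ?_⟩
    · simpa using mul_mem e (mem_sup_right (hDC (inv_mem hdD)))
    · have e1 := invol_eq (hE.comm _ (inv_mem hb) _ (hD hdD)) (hE.pow b hb)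
        (hE.cm_pow_eq_one (inv_mem hb) (hD hdD)) (by simpa [← pow_mul] using hE.exp b hb)
        (fun e => h4 (by simpa using (commutatorElement_eq_one_iff_commute.1 e).symm)) h1
      have e2 : d ^ 2 = 1 := hDZ _ (pow_mem hdD 2) (hE.pow d (hD hdD))
      calc (b * d) ^ 2 = b ^ 2 * ⁅b⁻¹, d⁆ * d ^ 2 := by simp [commutatorElement_def, sq, mul_assoc]
        _ = 1 := by rw [e2, mul_one, e1, ← sq, hE.cm_pow_eq_one (inv_mem hb) (hD hdD)]
  have hmem : ∀ x ∈ A ⊔ zpowers b, ∃ a ∈ A, ∃ k : ℤ, x = a * b ^ k := fun x hx => by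
    rw [← SetLike.mem_coe, coe_mul_of_left_le_normalizer_right _ _ (fun a ha =>
      centralizer_le_normalizer _ (by
        rintro _ ⟨k, rfl⟩; exact ((hbA a ha).zpow_left k).eq))] at hx
    obtain ⟨a, ha, _, ⟨k, rfl⟩, e⟩ := hx
    exact ⟨a, ha, k, e.symm⟩
  refine hn (mem_sup_left (hmax (y := A ⊔ zpowers b) ⟨sup_le hAE (by simpa using hb),
    fun x hx y hy => ?_, fun x hx => ?_, fun x hx hxC => ?_⟩ le_sup_left
    (mem_sup_right (mem_zpowers b))))
  · obtain ⟨a, ha, k, rfl⟩ := hmem x hx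
    obtain ⟨a', ha', k', rfl⟩ := hmem y hy
    exact ((hc a ha a' ha').mul_right ((hbA a ha).symm.zpow_right k')).mul_left
      (((hbA a' ha').zpow_left k).mul_right (Commute.zpow_zpow_self b k k'))
  · obtain ⟨a, ha, k, rfl⟩ := hmem x hx
    rw [((hbA a ha).symm.zpow_right k).mul_pow, he a ha, one_mul, ← zpow_natCast, ← zpow_mul,
      mul_comm, zpow_mul, zpow_natCast, hbr, one_zpow]
  · obtain ⟨a, ha, k, rfl⟩ := hmem x hx
    have h1 : b ^ k ∈ A ⊔ (E ⊓ centralizer (D : Set G)) := by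
      simpa using mul_mem (mem_sup_left (inv_mem ha))
        (mem_sup_right (S := A) (show _ ∈ E ⊓ centralizer (D : Set G) from
          ⟨mul_mem (hAE ha) (zpow_mem hb k), hxC⟩))
    by_cases h2 : b ^ k = 1
    · rw [h2, mul_one] at hxC ⊢
      exact hd a ha hxC
    · haveI := Fact.mk hE.prime
      have ho : orderOf b = r := orderOf_eq_prime hbr fun e => h2 (by simp [e])
      have : zpowers (b ^ k) = zpowers b := by
        refine (eq_of_le_of_card_ge (by simp [zpow_mem_zpowers]) ?_)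
        rw [Nat.card_zpowers, Nat.card_zpowers, ho, orderOf_eq_prime (p := r) _ h2]
        rw [← zpow_natCast, ← zpow_mul, mul_comm, zpow_mul, zpow_natCast, hbr, one_zpow]
      exact absurd ((zpowers_le.2 h1) (this ▸ mem_zpowers b)) hn

end Cfsg.Bs

set_option linter.all false in
theorem Cfsg.Rz.Bs_Dual_0 : True := by
  have := @_root_.Cfsg.Bs.Frame.mk.congr_simp.{0}
  trivial
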