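import Cfsg.Agent.Bs.Defs
import Mathlib.RingTheory.IntegralDomain
import Mathlib.RingTheory.Ideal.Quotient.Basic

/-! # Semiregular abelian normal subgroups -/

set_option autoImplicit false
set_option linter.unusedSectionVars false
set_option linter.unusedVariables false

namespace Cfsg.Bs

open Subgroup
open scoped IsMulCommutative

variable {p : ℕ} [Fact p.Prime] {G V : Type*} [Group G] [Finite G] [AddCommGroup V]
  [Module (ZMod p) V] [Finite V] [DistribMulAction G V]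

theorem isCyclic_of_semireg [Nontrivial V] (hG : ¬ p ∣ Nat.card G) (U : Subgroup G)
    (hU : ∀ a ∈ U, ∀ b ∈ U, Commute a b) (hs : Semireg U V) : IsCyclic U := by
  let ρ := (DistribMulAction.toAddMonoidEnd G V).comp U.subtype
  let R := Subring.closure (Set.range ρ)
  haveI : IsMulCommutative R := Subring.isMulCommutative_closure (by
    rintro _ ⟨a, rfl⟩ _ ⟨b, rfl⟩
    exact ((hU a a.2 b b.2).map (DistribMulAction.toAddMonoidEnd G V)).eq)
  haveI : Finite (AddMonoid.End V) := DFunLike.finite _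
  haveI : Nontrivial (AddMonoid.End V) :=
    let ⟨v, hv⟩ := exists_ne (0 : V)
    ⟨1, 0, fun e => hv (DFunLike.congr_fun e v)⟩
  obtain ⟨m, hm⟩ := Ideal.exists_maximal R
  let σ : U →* R := ρ.codRestrict R fun a => Subring.subset_closure ⟨a, rfl⟩
  refine isCyclic_of_injective_ringHom ((Ideal.Quotient.mk m : R →* R ⧸ m).comp σ)
    ((injective_iff_map_eq_one _).2 fun a ha => by_contra fun e => hm.ne_top (m.eq_top_of_isUnit_mem
      (Ideal.Quotient.eq.1 (show Ideal.Quotient.mk m (σ a) = Ideal.Quotient.mk m 1 from ha)) (IsLeftRegular.isUnit_of_finite (isLeftRegular_iff_right_eq_zero_of_mul.2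
        fun r hr => Subtype.ext (AddMonoidHom.ext fun v => ?_)))))
  exact (hs a a.2 _ (sub_eq_zero.1 (DFunLike.congr_fun (congrArg Subtype.val hr) v))).resolve_left
    fun e' => e (Subtype.ext e')

theorem exists_avg (hG : ¬ p ∣ Nat.card G) (H : Subgroup G) (W : Submodule (ZMod p) V) {y : V}
    (h : ∀ g ∈ H, g • y - y ∈ W) : ∃ y', y' - y ∈ W ∧ ∀ g ∈ H, g • y' = y' := by
  letI := Fintype.ofFinite H
  have h1 : (Nat.card H : ZMod p) ≠ 0 := fun e =>
    hG (((ZMod.natCast_eq_zero_iff _ _).1 e).trans (card_subgroup_dvd_card H))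
  refine ⟨(Nat.card H : ZMod p)⁻¹ • ∑ g : H, (g : G) • y, ?_, fun g hg => ?_⟩
  · convert W.smul_mem (Nat.card H : ZMod p)⁻¹ (W.sum_mem (t := Finset.univ) fun (g : H) _ => h g g.2)
    rw [Finset.sum_sub_distrib, Finset.sum_const, Finset.card_univ, ← Nat.card_eq_fintype_card, smul_sub,
      ← Nat.cast_smul_eq_nsmul (ZMod p), inv_smul_smul₀ h1]
  · rw [smul_zmod, Finset.smul_sum, ← Equiv.sum_comp (Equiv.mulLeft (⟨g, hg⟩ : H)) fun g : H => (g : G) • y]
    simp [mul_smul]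

/-- The elements of `N` that fix `y` modulo the `N`-invariant subspace `W`. -/
def fixMod (N : Subgroup G) (W : Submodule (ZMod p) V) (hW : ∀ g ∈ N, ∀ w ∈ W, g • w ∈ W) (y : V) :
    Subgroup G where
  carrier := {g | g ∈ N ∧ g • y - y ∈ W}
  one_mem' := ⟨one_mem _, by simp⟩
  mul_mem' {g h} hg hh := ⟨mul_mem hg.1 hh.1, by
    simpa [smul_sub, mul_smul] using add_mem (hW g hg.1 _ hh.2) hg.2⟩
  inv_mem' {g} hg := ⟨inv_mem hg.1, by simpa [smul_sub] using neg_mem (hW _ (inv_mem hg.1) _ hg.2)⟩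

theorem exists_avg_mod (hG : ¬ p ∣ Nat.card G) (N : Subgroup G) (W : Submodule (ZMod p) V)
    (hW : ∀ g ∈ N, ∀ w ∈ W, g • w ∈ W) (y : V) :
    ∃ y', y' - y ∈ W ∧ ∀ g ∈ N, g • y' - y' ∈ W → g • y' = y' :=
  let ⟨y', h1, h2⟩ := exists_avg hG (fixMod N W hW y) W fun _ hg => hg.2
  ⟨y', h1, fun g hg e => h2 g ⟨hg, by
    convert add_mem (sub_mem e (hW g hg _ h1)) h1 using 1
    rw [smul_sub]; abel⟩⟩

theorem smul_mem_span {S : Set V} {W : Submodule (ZMod p) V} {g : G} (h : ∀ s ∈ S, g • s ∈ W) :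
    ∀ w ∈ Submodule.span (ZMod p) S, g • w ∈ W := fun _ hw =>
  (Submodule.span_le (p := W.comap ((DistribSMul.toAddMonoidHom V g).toZModLinearMap p))).2 h hw

theorem base_of_semilinear [Nontrivial V] (hG : ¬ p ∣ Nat.card G) (u : G) [(zpowers u).Normal]
    (hs : Semireg (zpowers u) V) (hb : HasBase (centralizer {u}) V) : HasBase G V := by
  obtain ⟨x, y, hx, h⟩ : ∃ x y : V, x ≠ 0 ∧ ∀ g ∈ centralizer {u}, g • x = x → g • y = y → g = 1 := by
    obtain ⟨x, y, h⟩ := hb
    replace h := fun g hg e e' => congrArg Subtype.val (h ⟨g, hg⟩ e e')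
    by_cases hx : x = 0
    · obtain ⟨v, hv⟩ := exists_ne (0 : V)
      by_cases hy : y = 0
      exacts [⟨v, v, hv, fun g hg _ _ => h g hg (by simp [hx]) (by simp [hy])⟩,
        ⟨y, x, hy, fun g hg e e' => h g hg e' e⟩]
    exact ⟨x, y, hx, h⟩
  let W := Submodule.span (ZMod p) {v | ∃ w ∈ zpowers u, w • x = v}
  have h1 : ∀ w ∈ zpowers u, ∀ g : G, g • x = x → g • w • x = (g * w * g⁻¹) • x := fun w _ g e => by
    rw [mul_smul, inv_smul_eq_iff.2 e.symm, mul_smul]
  have h2 : ∀ w ∈ zpowers u, ∀ g : G, g • x = x → g • w • x ∈ W := fun w hw g e =>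
    Submodule.subset_span ⟨_, Normal.conj_mem ‹_› w hw g, (h1 w hw g e).symm⟩
  obtain ⟨y', h3, h4⟩ := exists_avg_mod hG (MulAction.stabilizer G x) W (fun g hg => smul_mem_span (by
    rintro _ ⟨w, hw, rfl⟩; exact h2 w hw g hg)) y
  refine ⟨x, y' + u • x, fun g e e' => ?_⟩
  rw [smul_add] at e'
  have h5 := h4 g e (by
    convert sub_mem (h2 u (mem_zpowers u) 1 (one_smul _ _)) (h2 u (mem_zpowers u) g e) using 1
    rw [one_smul, sub_eq_sub_iff_add_eq_add, e', add_comm])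
  rw [h5, add_right_inj, h1 u (mem_zpowers u) g e, eq_comm, ← inv_smul_eq_iff, ← mul_smul, eq_comm,
    ← inv_smul_eq_iff, mul_inv_rev, inv_inv] at e'
  have h6 : g * u = u * g := mul_inv_eq_iff_eq_mul.1 (inv_mul_eq_one.1 ((hs _ (mul_mem (inv_mem
    (mem_zpowers u)) (Normal.conj_mem ‹_› u (mem_zpowers u) g)) x e').resolve_right hx)).symm
  have h7 : g • (y' - y) - (y' - y) ∈ (⊥ : Submodule (ZMod p) V) := by
    refine Submodule.span_induction ?_ (by simp) (fun a b _ _ ha hb => ?_) (fun c a _ ha => ?_) h3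
    · rintro _ ⟨w, ⟨k, rfl⟩, rfl⟩
      rw [← mul_smul, ((show Commute g u from h6).zpow_right k).eq, mul_smul, e, sub_self]
      rfl
    · simpa [smul_add, add_sub_add_comm] using add_mem ha hb
    · rw [smul_zmod, ← smul_sub]; exact Submodule.smul_mem _ c ha
  exact h g (mem_centralizer_singleton_iff.2 h6) e (by simpa [smul_sub, h5, sub_eq_zero, eq_comm] using h7)

end Cfsg.Bs

set_option linter.all false in
theorem Cfsg.Rz.Bs_Semi_0 : True := by
  have := @_root_.Cfsg.Bs.fixMod.congr_simp.{0, 0}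
  have := @_root_.Cfsg.Bs.fixMod.eq_def.{0, 0}
  have := @_root_.Cfsg.Bs.fixMod.eq_1.{0, 0}
  have := @_root_.Cfsg.Bs.fixMod.fun_cases
  trivial
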