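import Cfsg.Agent.Bs.Defs
import Cfsg.Agent.Grp.SylCentB

/-! # Existence of a normal subgroup of symplectic type -/

set_option autoImplicit false
set_option linter.unusedSectionVars false

namespace Cfsg.Bs

open Subgroup
open scoped commutatorElement

variable {G : Type*} [Group G] [Finite G]

theorem commute_of_mem_center {z : G} (hz : z ∈ center G) (g : G) : Commute g z :=
  mem_center_iff.1 hz g

theorem commutator_mul_center {z : G} (hz : z ∈ center G) (g a : G) : ⁅g, a * z⁆ = ⁅g, a⁆ := by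
  have h1 : g * (a * z) * g⁻¹ = g * a * g⁻¹ * z := by
    rw [mul_assoc (g * a), (commute_of_mem_center hz g⁻¹).eq]; simp only [mul_assoc]
  rw [commutatorElement_def, commutatorElement_def, h1]
  group

theorem commutator_center_mul {z : G} (hz : z ∈ center G) (g a : G) : ⁅a * z, g⁆ = ⁅a, g⁆ := by
  rw [← commutatorElement_inv, commutator_mul_center hz, commutatorElement_inv]

/-- the minimal noncentral normal subgroup -/
theorem exists_sym_min [Group.IsSolvable G]
    (h : ∀ U : Subgroup G, U.Normal → (∀ a ∈ U, ∀ b ∈ U, Commute a b) → U ≤ center G)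
    [IsCyclic (center G)] (hn : center G ≠ ⊤) : ∃ (r : ℕ) (E : Subgroup G), r.Prime ∧ E.Normal ∧
      ¬ E ≤ center G ∧ (∀ a ∈ E, ∀ b ∈ E, ⁅a, b⁆ ∈ center G) ∧ (∀ a ∈ E, a ^ r ∈ center G) ∧
      (∀ a ∈ E, a ^ (if r = 2 then 4 else r) = 1) ∧
      ∀ g ∈ pCore r G, ∀ a ∈ E, ⁅g, a⁆ ∈ center G := by
  obtain ⟨E, ⟨hEn, hEz⟩, hmin⟩ := (wellFounded_lt (α := Subgroup G)).has_min
    {N : Subgroup G | N.Normal ∧ ¬ N ≤ center G} ⟨⊤, inferInstance, fun h => hn (top_le_iff.1 h)⟩
  have hlt : ∀ N : Subgroup G, N.Normal → N < E → N ≤ center G := fun N hN hl => by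
    by_contra hc
    exact hmin N ⟨hN, hc⟩ hl
  have hE0 : E ≠ ⊥ := fun h0 => hEz (h0 ▸ bot_le)
  have hcomm : ∀ a ∈ E, ∀ b ∈ E, ⁅a, b⁆ ∈ center G := fun a ha b hb =>
    hlt _ inferInstance (Group.IsSolvable.commutator_lt_of_ne_bot hE0)
      (commutator_mem_commutator ha hb)
  have hmul : ∀ a ∈ E, ∀ b ∈ E, ∀ n : ℕ, (a * b) ^ n = ⁅b, a⁆ ^ n.choose 2 * (a ^ n * b ^ n) :=
    fun a ha b hb n => SylCent.mul_pow_aux (commute_of_mem_center (hcomm b hb a ha) a)
      (commute_of_mem_center (hcomm b hb a ha) b) n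
  -- the prime
  obtain ⟨r, hr, b, hbE, hbz, hbr⟩ : ∃ r : ℕ, r.Prime ∧ ∃ b ∈ E, b ∉ center G ∧
      b ^ r ∈ center G := by
    obtain ⟨a, haE, haz⟩ := SetLike.not_le_iff_exists.1 hEz
    set n := orderOf (QuotientGroup.mk' (center G) a) with hn
    have hn1 : n ≠ 1 := fun h1 => haz (by
      rw [hn, orderOf_eq_one_iff] at h1
      exact (QuotientGroup.eq_one_iff a).1 h1)
    have hn0 : 0 < n := orderOf_pos _
    obtain ⟨m, hm⟩ := Nat.minFac_dvd n
    have hp := Nat.minFac_prime hn1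
    refine ⟨n.minFac, hp, a ^ m, pow_mem haE m, fun hc => ?_, ?_⟩
    · have h1 : (QuotientGroup.mk' (center G) a) ^ m = 1 := by
        rw [← map_pow]; exact (QuotientGroup.eq_one_iff _).2 hc
      have h2 := orderOf_dvd_of_pow_eq_one h1
      rw [← hn] at h2
      have hm0 : 0 < m := Nat.pos_of_ne_zero fun h0 => by rw [h0, mul_zero] at hm; omega
      have h3 := Nat.le_of_dvd hm0 h2
      have h4 := hp.two_le
      nlinarith
    · rw [← pow_mul, mul_comm, ← hm]
      refine (QuotientGroup.eq_one_iff _).1 ?_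
      change QuotientGroup.mk' (center G) (a ^ n) = 1
      rw [map_pow, hn, pow_orderOf_eq_one]
  have hpow : ∀ a ∈ E, a ^ r ∈ center G := by
    let P : Subgroup G :=
      { carrier := {a | a ∈ E ∧ a ^ r ∈ center G}
        one_mem' := ⟨one_mem _, by rw [one_pow]; exact one_mem _⟩
        mul_mem' := fun {a b} ha hb => ⟨mul_mem ha.1 hb.1, by
          rw [hmul a ha.1 b hb.1]
          exact mul_mem (pow_mem (hcomm b hb.1 a ha.1) _) (mul_mem ha.2 hb.2)⟩
        inv_mem' := fun {a} ha => ⟨inv_mem ha.1, by rw [inv_pow]; exact inv_mem ha.2⟩ }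
    have hPn : P.Normal := ⟨fun a ha g => ⟨hEn.conj_mem a ha.1 g, by
      rw [conj_pow]; exact (inferInstance : (center G).Normal).conj_mem _ ha.2 g⟩⟩
    have hle : P ≤ E := fun a ha => ha.1
    have : P = E := by
      by_contra hne
      exact hbz (hlt P hPn (lt_of_le_of_ne hle hne) ⟨hbE, hbr⟩)
    intro a ha
    rw [← this] at ha
    exact ha.2
  have hcr : ∀ a ∈ E, ∀ b ∈ E, ⁅a, b⁆ ^ r = 1 := fun a ha b hb => by
    rw [← SylCent.comm_pow_aux (commute_of_mem_center (hcomm a ha b hb) a),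
      commutatorElement_eq_one_iff_commute]
    exact (commute_of_mem_center (hpow a ha) b).symm
  set ε := if r = 2 then 4 else r with hε
  have hε1 : r ∣ ε := by
    rw [hε]; split_ifs with h2
    · rw [h2]; norm_num
    · exact dvd_rfl
  have hε2 : r ∣ ε.choose 2 := by
    rw [hε]; split_ifs with h2
    · rw [h2]; decide
    · exact hr.dvd_choose_self two_ne_zero (lt_of_le_of_ne hr.two_le (Ne.symm h2))
  have hmε : ∀ a ∈ E, ∀ b ∈ E, (a * b) ^ ε = a ^ ε * b ^ ε := fun a ha b hb => by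
    obtain ⟨m, hm⟩ := hε2
    rw [hmul a ha b hb, hm, pow_mul, hcr b hb a ha, one_pow, one_mul]
  have hεz : ∀ a ∈ E, a ^ ε ∈ center G := fun a ha => by
    obtain ⟨m, hm⟩ := hε1
    rw [hm, pow_mul]
    exact pow_mem (hpow a ha) m
  have hexp : ∀ a ∈ E, a ^ ε = 1 := by
    let K : Subgroup G :=
      { carrier := {a | a ∈ E ∧ a ^ ε = 1}
        one_mem' := ⟨one_mem _, one_pow _⟩
        mul_mem' := fun {a b} ha hb => ⟨mul_mem ha.1 hb.1, by
          rw [hmε a ha.1 b hb.1, ha.2, hb.2, one_mul]⟩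
        inv_mem' := fun {a} ha => ⟨inv_mem ha.1, by rw [inv_pow, ha.2, inv_one]⟩ }
    have hKn : K.Normal := ⟨fun a ha g => ⟨hEn.conj_mem a ha.1 g, by
      rw [conj_pow, ha.2]; group⟩⟩
    have hle : K ≤ E := fun a ha => ha.1
    have : K = E := by
      by_contra hne
      have hKz := hlt K hKn (lt_of_le_of_ne hle hne)
      let φ : E →* center G := MonoidHom.mk' (fun a => ⟨(a : G) ^ ε, hεz a a.2⟩)
        fun a b => Subtype.ext (hmε a a.2 b b.2)
      have hc := φ.isMulCommutative_of_isCyclic_of_ker_le_center fun a ha => by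
        have h1 : (a : G) ∈ K := ⟨a.2, congrArg Subtype.val ha⟩
        exact mem_center_iff.2 fun g => Subtype.ext (commute_of_mem_center (hKz h1) g)
      exact hEz (h E hEn fun a ha b hb =>
        congrArg Subtype.val (hc.is_comm.comm (⟨a, ha⟩ : E) ⟨b, hb⟩))
    intro a ha
    rw [← this] at ha
    exact ha.2
  haveI := Fact.mk hr
  have hEp : IsPGroup r E := fun a => by
    by_cases h2 : r = 2
    · refine ⟨2, Subtype.ext ?_⟩
      have := hexp a a.2
      rw [hε, if_pos h2] at this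
      rw [h2]; exact this
    · refine ⟨1, Subtype.ext ?_⟩
      have := hexp a a.2
      rw [hε, if_neg h2] at this
      rw [pow_one]; exact this
  haveI : Group.IsNilpotent (pCore r G) := (isPGroup_pCore r G).isNilpotent
  have hcore : ⁅E, pCore r G⁆ ≤ center G := hlt _ inferInstance
    (commutator_lt_of_le_isNilpotent (L := pCore r G) (le_pCore hEp) le_rfl
      le_normalizer_of_normal hE0)
  refine ⟨r, E, hr, hEn, hEz, hcomm, hpow, hexp, fun g hg a ha => ?_⟩
  rw [← commutatorElement_inv]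
  exact inv_mem (hcore (commutator_mem_commutator ha hg))

theorem exists_sym [Group.IsSolvable G]
    (h : ∀ U : Subgroup G, U.Normal → (∀ a ∈ U, ∀ b ∈ U, Commute a b) → U ≤ center G)
    [IsCyclic (center G)] (hn : center G ≠ ⊤) : ∃ (r : ℕ) (E : Subgroup G), Sym r E := by
  obtain ⟨r, E, hr, hEn, hEz, hcomm, hpow, hexp, hcore⟩ := exists_sym_min h hn
  set ε := if r = 2 then 4 else r with hε
  let F : Subgroup G :=
    { carrier := {x | ∃ a ∈ E, ∃ z ∈ center G, z ^ ε = 1 ∧ x = a * z}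
      one_mem' := ⟨1, one_mem _, 1, one_mem _, one_pow _, (one_mul _).symm⟩
      mul_mem' := by
        rintro _ _ ⟨a, ha, z, hz, hz1, rfl⟩ ⟨b, hb, w, hw, hw1, rfl⟩
        refine ⟨a * b, mul_mem ha hb, z * w, mul_mem hz hw, ?_, ?_⟩
        · rw [(commute_of_mem_center hw z).mul_pow, hz1, hw1, one_mul]
        · rw [mul_assoc, ← mul_assoc z, ← (commute_of_mem_center hz b).eq]
          simp only [mul_assoc]
      inv_mem' := by
        rintro _ ⟨a, ha, z, hz, hz1, rfl⟩
        refine ⟨a⁻¹, inv_mem ha, z⁻¹, inv_mem hz, by rw [inv_pow, hz1, inv_one], ?_⟩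
        rw [mul_inv_rev, (commute_of_mem_center (inv_mem hz) a⁻¹).eq] }
  have hFn : F.Normal := ⟨by
    rintro _ ⟨a, ha, z, hz, hz1, rfl⟩ g
    refine ⟨g * a * g⁻¹, hEn.conj_mem a ha g, z, hz, hz1, ?_⟩
    rw [mul_assoc (g * a), (commute_of_mem_center hz g⁻¹).eq]; simp only [mul_assoc]⟩
  refine ⟨r, F, hr, hFn, ?_, ?_, ?_, ?_, ?_, ?_, ?_⟩
  · rintro _ ⟨a, ha, z, hz, -, rfl⟩ _ ⟨b, hb, w, hw, -, rfl⟩
    rw [commutator_mul_center hw, commutator_center_mul hz]
    exact hcomm a ha b hb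
  · rintro _ ⟨a, ha, z, hz, -, rfl⟩
    rw [(commute_of_mem_center hz a).mul_pow]
    exact mul_mem (hpow a ha) (pow_mem hz r)
  · rintro _ ⟨a, ha, z, hz, hz1, rfl⟩
    rw [(commute_of_mem_center hz a).mul_pow, hexp a ha, hz1, one_mul]
  · intro a ha hc
    refine h (F ⊓ centralizer (F : Set G)) inferInstance (fun x hx y hy => ?_)
      (mem_inf.2 ⟨ha, fun b hb => (hc b hb).symm.eq⟩)
    exact (mem_inf.1 hy).2 x (mem_inf.1 hx).1
  · exact fun hle => hEz fun a ha => hle ⟨a, ha, 1, one_mem _, one_pow _, (mul_one _).symm⟩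
  · exact fun z hz hz1 => ⟨1, one_mem _, z, hz, hz1, (one_mul _).symm⟩
  · rintro g hg _ ⟨a, ha, z, hz, -, rfl⟩
    rw [commutator_mul_center hz]
    exact hcore g hg a ha

end Cfsg.Bs
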