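import Cfsg.Agent.Bs.Imprim
import Cfsg.Agent.Bs.Semi
import Cfsg.Agent.Bs.Sym

/-! # Base size two for coprime solvable linear groups: the double induction

The case of a normal subgroup of symplectic type enters as the hypothesis `hM`. -/

set_option autoImplicit false
set_option linter.unusedSectionVars false

namespace Cfsg.Bs

open Subgroup
open scoped commutatorElement

universe u v

variable {p : ℕ} [Fact p.Prime]

section

variable {G V : Type*} [Group G] [Finite G] [AddCommGroup V]
  [Module (ZMod p) V] [Finite V] [DistribMulAction G V]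

theorem Ctx.subgroup (h : Ctx p G V) (C : Subgroup G) (hC : center G ≤ C) : Ctx p C V where
  odd := h.odd
  cop := fun hd => h.cop (hd.trans C.card_subgroup_dvd_card)
  solv := by haveI := h.solv; infer_instance
  faithful := fun g hg => Subtype.ext (h.faithful g hg)
  scal := fun c hc => by
    obtain ⟨z, hz⟩ := h.scal c hc
    have hzc : z ∈ center G := mem_center_iff.2 fun g => by
      have := h.faithful ((z * g)⁻¹ * (g * z)) fun v => by
        rw [mul_smul, inv_smul_eq_iff, mul_smul, mul_smul, hz, hz, smul_zmod]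
      rw [inv_mul_eq_one] at this
      exact this.symm
    exact ⟨⟨z, hC hzc⟩, hz⟩
  ih := fun B W h1 h2 hB => by
    obtain ⟨x, hx, y, hy, hx0, hy0, hb⟩ := h.ih (B.map C.subtype) W h1 h2 (by
      rintro _ ⟨b, hb, rfl⟩ w hw
      exact hB b hb w hw)
    exact ⟨x, hx, y, hy, hx0, hy0, fun b hb' h3 h4 w hw => hb b ⟨b, hb', rfl⟩ h3 h4 w hw⟩

end

section

variable (hM : ∀ (G V : Type u) [Group G] [Finite G] [AddCommGroup V] [Module (ZMod p) V]
  [Finite V] [DistribMulAction G V], Ctx p G V → ∀ (r : ℕ) (E : Subgroup G), Sym r E →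
    Semireg (center G) V → IsCyclic (center G) → HasBase G V)
include hM

theorem hasBase_of_ctx_aux {V : Type u} [AddCommGroup V] [Module (ZMod p) V] [Finite V] (n : ℕ) :
    ∀ (G : Type u) [Group G] [Finite G] [DistribMulAction G V], Nat.card G = n → Ctx p G V →
      HasBase G V := by
  induction n using Nat.strong_induction_on with
  | _ n ih =>
  intro G _ _ _ hn h
  rcases subsingleton_or_nontrivial V with hV | hV
  · exact ⟨0, 0, fun g _ _ => h.faithful g fun v => Subsingleton.elim _ _⟩
  by_cases h1 : ∃ U : Subgroup G, U.Normal ∧ (∀ a ∈ U, ∀ b ∈ U, Commute a b) ∧ ¬ Semireg U V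
  · obtain ⟨U, hU, hc, hs⟩ := h1
    exact h.base_of_not_semireg U hc hs
  have h1' : ∀ U : Subgroup G, U.Normal → (∀ a ∈ U, ∀ b ∈ U, Commute a b) → Semireg U V :=
    fun U hU hc => by
      by_contra hs
      exact h1 ⟨U, hU, hc, hs⟩
  by_cases h2 : ∃ U : Subgroup G, U.Normal ∧ (∀ a ∈ U, ∀ b ∈ U, Commute a b) ∧ ¬ U ≤ center G
  · obtain ⟨U, hU, hc, hz⟩ := h2
    have hs := h1' U hU hc
    obtain ⟨u, rfl⟩ := U.isCyclic_iff_exists_zpowers_eq_top.1 (isCyclic_of_semireg h.cop U hc hs)
    refine base_of_semilinear h.cop u hs (ih _ ?_ _ rfl (h.subgroup _ (center_le_centralizer _)))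
    rw [← hn]
    refine Nat.lt_of_le_of_ne (card_le_card_group _) fun he => hz ?_
    rw [zpowers_le, mem_center_iff]
    intro g
    have : g ∈ centralizer ({u} : Set G) := by rw [eq_top_of_card_eq _ he]; trivial
    exact (this u rfl).symm
  have h2' : ∀ U : Subgroup G, U.Normal → (∀ a ∈ U, ∀ b ∈ U, Commute a b) → U ≤ center G :=
    fun U hU hc => by
      by_contra hs
      exact h2 ⟨U, hU, hc, hs⟩
  have hzc : ∀ a ∈ center G, ∀ b ∈ center G, Commute a b := fun a _ b hb =>
    commute_of_mem_center hb a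
  have hs := h1' _ inferInstance hzc
  haveI := isCyclic_of_semireg h.cop _ hzc hs
  by_cases h3 : center G = ⊤
  · obtain ⟨x, hx⟩ := exists_ne (0 : V)
    exact ⟨x, x, fun g hg _ => (hs g (h3 ▸ mem_top g) x hg).resolve_right hx⟩
  haveI := h.solv
  obtain ⟨r, E, hE⟩ := exists_sym h2' h3
  exact hM G V h r E hE hs inferInstance

theorem exists_base_step (hp : p ≠ 2) {V : Type u} [AddCommGroup V] [Module (ZMod p) V] [Finite V]
    (ih : ∀ (W : Type u) [AddCommGroup W] [Module (ZMod p) W] [Finite W],
      Nat.card W < Nat.card V → ∀ (B : Type u) [Group B] [Finite B] [Group.IsSolvable B]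
      [DistribMulAction B W], ¬ p ∣ Nat.card B →
        ∃ x y : W, ∀ b : B, b • x = x → b • y = y → ∀ w : W, b • w = w)
    (G : Type v) [Group G] [Finite G] [Group.IsSolvable G] [DistribMulAction G V]
    (hG : ¬ p ∣ Nat.card G) :
    ∃ x y : V, ∀ g : G, g • x = x → g • y = y → ∀ v : V, g • v = v := by
  haveI : SMulCommClass G (ZMod p) V := ⟨smul_zmod⟩
  let φ : G × (ZMod p)ˣ →* (V ≃ₗ[ZMod p] V) :=
    MonoidHom.noncommCoprod (DistribMulAction.toModuleAut (ZMod p) V)
      (DistribMulAction.toModuleAut (ZMod p) V) fun g c => LinearEquiv.ext fun v =>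
        smul_zmod g (c : ZMod p) v
  have hφ : ∀ (g : G) (c : (ZMod p)ˣ) (v : V), φ (g, c) v = g • (c : ZMod p) • v :=
    fun _ _ _ => rfl
  haveI : Finite φ.range := Finite.of_surjective _ φ.rangeRestrict_surjective
  haveI hsol : Group.IsSolvable φ.range := Group.isSolvable_of_surjective φ.rangeRestrict_surjective
  have hcop : ¬ p ∣ Nat.card φ.range := fun hd => by
    have h1 := hd.trans (card_range_dvd φ)
    rw [Nat.card_prod, (Fact.out : p.Prime).dvd_mul, Nat.card_eq_fintype_card (α := (ZMod p)ˣ),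
      ZMod.card_units] at h1
    rcases h1 with h1 | h1
    · exact hG h1
    · have h2 := (Fact.out : p.Prime).two_le
      have := Nat.le_of_dvd (by omega) h1
      omega
  have hc : Ctx p φ.range V :=
    { odd := hp
      cop := hcop
      solv := hsol
      faithful := fun g hg => Subtype.ext (LinearEquiv.ext hg)
      scal := fun c hc => ⟨⟨φ (1, Units.mk0 c hc), _, rfl⟩, fun v => by
        change φ (1, Units.mk0 c hc) v = _
        rw [hφ, one_smul]; rfl⟩
      ih := fun B W h1 h2 hB => by
        letI : DistribMulAction B W :=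
          { smul := fun b w => ⟨(b : φ.range) • (w : V), hB b b.2 w w.2⟩
            one_smul := fun w => Subtype.ext (one_smul φ.range (w : V))
            mul_smul := fun a b w => Subtype.ext (mul_smul (a : φ.range) (b : φ.range) (w : V))
            smul_zero := fun b => Subtype.ext (smul_zero (b : φ.range))
            smul_add := fun b v w => Subtype.ext (smul_add (b : φ.range) (v : V) (w : V)) }
        have hlt : Nat.card W < Nat.card V :=
          Finite.card_subtype_lt (p := fun v => v ∈ W) (x := (not_forall.1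
            (fun h => h1 (Submodule.eq_top_iff'.2 h))).choose) (not_forall.1
            (fun h => h1 (Submodule.eq_top_iff'.2 h))).choose_spec
        obtain ⟨x, y, hxy⟩ := ih W hlt B fun hd => hcop (hd.trans B.card_subgroup_dvd_card)
        have key : ∀ b ∈ B, b • (x : V) = x → b • (y : V) = y → ∀ w ∈ W, b • w = w :=
          fun b hb h3 h4 w hw => congrArg Subtype.val
            (hxy ⟨b, hb⟩ (Subtype.ext h3) (Subtype.ext h4) ⟨w, hw⟩)
        obtain ⟨w, hw, hw0⟩ := Submodule.exists_mem_ne_zero_of_ne_bot h2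
        by_cases hx : (x : V) = 0 <;> by_cases hy : (y : V) = 0
        · exact ⟨w, hw, w, hw, hw0, hw0, fun b hb _ _ =>
            key b hb (by rw [hx, smul_zero]) (by rw [hy, smul_zero])⟩
        · exact ⟨y, y.2, y, y.2, hy, hy, fun b hb _ h4 => key b hb (by rw [hx, smul_zero]) h4⟩
        · exact ⟨x, x.2, x, x.2, hx, hx, fun b hb h3 _ => key b hb h3 (by rw [hy, smul_zero])⟩
        · exact ⟨x, x.2, y, y.2, hx, hy, key⟩ }
  obtain ⟨x, y, hxy⟩ := hasBase_of_ctx_aux hM _ φ.range rfl hc
  refine ⟨x, y, fun g h1 h2 v => ?_⟩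
  have h3 : ∀ v : V, (⟨φ (g, 1), _, rfl⟩ : φ.range) • v = g • v := fun v => by
    change φ (g, 1) v = _
    rw [hφ, Units.val_one, one_smul]
  have h4 := hxy ⟨φ (g, 1), _, rfl⟩ (by rw [h3, h1]) (by rw [h3, h2])
  rw [← h3, h4, one_smul]

theorem exists_base_aux (hp : p ≠ 2) (n : ℕ) : ∀ (V : Type u) [AddCommGroup V]
    [Module (ZMod p) V] [Finite V], Nat.card V = n → ∀ (G : Type u) [Group G] [Finite G]
    [Group.IsSolvable G] [DistribMulAction G V], ¬ p ∣ Nat.card G →
      ∃ x y : V, ∀ g : G, g • x = x → g • y = y → ∀ v : V, g • v = v := by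
  induction n using Nat.strong_induction_on with
  | _ n ih =>
  intro V _ _ _ hn G _ _ _ _ hG
  exact exists_base_step hM hp (fun W _ _ _ hW B _ _ _ _ hB => ih _ (hn ▸ hW) W rfl B hB) G hG

theorem exists_base (hp : p ≠ 2) {V : Type u} [AddCommGroup V] [Module (ZMod p) V] [Finite V]
    (G : Type v) [Group G] [Finite G] [Group.IsSolvable G] [DistribMulAction G V]
    (hG : ¬ p ∣ Nat.card G) : ∃ x y : V, ∀ g : G, g • x = x → g • y = y → ∀ v : V, g • v = v :=
  exists_base_step hM hp (fun W _ _ _ _ B _ _ _ _ hB => exists_base_aux hM hp _ W rfl B hB) G hG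

end

/-- the final statement, given the symplectic case -/
theorem base_two_of_sym {F : Type*} [Field F] [Fintype F] (hF : ringChar F ≠ 2) {V : Type u}
    [AddCommGroup V] [Module F V] [Finite V] {G : Type*} [Group G] [Finite G] [Group.IsSolvable G]
    (ρ : Representation F G V) (hfaith : Function.Injective ρ)
    (hcop : (Nat.card G).Coprime (Nat.card V))
    (hM : ∀ (p : ℕ) [Fact p.Prime] (G V : Type u) [Group G] [Finite G] [AddCommGroup V]
      [Module (ZMod p) V] [Finite V] [DistribMulAction G V], Ctx p G V → ∀ (r : ℕ)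
      (E : Subgroup G), Sym r E → Semireg (center G) V → IsCyclic (center G) → HasBase G V) :
    ∃ x y : V, ∀ g : G, ρ g x = x → ρ g y = y → g = 1 := by
  have hinj : ∀ g : G, (∀ v, ρ g v = v) → g = 1 := fun g hg =>
    hfaith (by rw [map_one]; exact LinearMap.ext hg)
  rcases subsingleton_or_nontrivial V with hV | hV
  · exact ⟨0, 0, fun g _ _ => hinj g fun v => Subsingleton.elim _ _⟩
  haveI hp : Fact (ringChar F).Prime := ⟨CharP.char_is_prime F _⟩
  have h0 : ∀ v : V, ringChar F • v = 0 := fun v => by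
    rw [← Nat.cast_smul_eq_nsmul F, CharP.cast_eq_zero, zero_smul]
  letI : Module (ZMod (ringChar F)) V := AddCommGroup.zmodModule h0
  letI : DistribMulAction G V := DistribMulAction.compHom V (ρ : G →* Module.End F V)
  have hG : ¬ ringChar F ∣ Nat.card G := fun hd => by
    obtain ⟨v, hv⟩ := exists_ne (0 : V)
    have h1 : ringChar F ∣ Nat.card V := by
      rw [← addOrderOf_eq_prime (h0 v) hv]; exact addOrderOf_dvd_natCard v
    exact hp.out.one_lt.ne' (Nat.eq_one_of_dvd_coprimes hcop hd h1)
  obtain ⟨x, y, hxy⟩ := exists_base (hM (ringChar F)) hF (V := V) G hG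
  exact ⟨x, y, fun g h1 h2 => hinj g (hxy g h1 h2)⟩

end Cfsg.Bs
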