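import Cfsg.Agent.Bs.Defs

/-! # The Pauli group of two qubits over `ZMod 5`: finite checks -/

set_option autoImplicit false

namespace Cfsg.Bs

/-- coordinates on the span of `x, τ₁ x, τ₂ x, τ₁ τ₂ x` -/
abbrev W5 := ZMod 5 × ZMod 5 × ZMod 5 × ZMod 5

/-- parameters of a Pauli operator -/
abbrev P5 := ZMod 5 × Bool × Bool × Bool × Bool

/-- the first shift -/
def X1 (v : W5) : W5 := (v.2.1, v.1, v.2.2.2, v.2.2.1)

/-- the second shift -/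
def X2 (v : W5) : W5 := (v.2.2.1, v.2.2.2, v.1, v.2.1)

/-- a sign -/
def sg (b : Bool) : ZMod 5 := cond b (-1) 1

/-- the diagonal Pauli operators -/
def dg (l : ZMod 5) (s t : Bool) (v : W5) : W5 :=
  (l * v.1, sg s * l * v.2.1, sg t * l * v.2.2.1, sg s * sg t * l * v.2.2.2)

/-- the Pauli operators -/
def pa (P : P5) (v : W5) : W5 :=
  cond P.2.2.2.1 X1 id (cond P.2.2.2.2 X2 id (dg P.1 P.2.1 P.2.2.1 v))

/-- three regular orbits -/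
def v5 (i : Fin 3) : W5 := ![(0, 1, 1, 1), (0, 1, 1, 2), (0, 1, 2, 1)] i

theorem pa_reg : ∀ (i : Fin 3) (P : P5), pa P (v5 i) = v5 i → P = (1, false, false, false, false) := by
  decide +kernel

theorem pa_sep : ∀ (i j : Fin 3) (P : P5), v5 j = pa P (v5 i) → j = i := by
  decide +kernel

set_option synthInstance.maxSize 2000 in
set_option synthInstance.maxHeartbeats 400000 in
theorem pa_base : ∀ P : P5, P.1 ≠ 0 → ∀ Q : P5, Q.1 ≠ 0 →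
    (4 : ZMod 5) • pa Q (v5 0) + (2 : ZMod 5) • pa P (pa Q (v5 0)) = (1, 1, 2, 4) →
    (∃ R : P5, pa R (v5 0) = (3 : ZMod 5) • v5 0 + (4 : ZMod 5) • pa P (v5 0) +
      (2 : ZMod 5) • pa Q (v5 0) + (4 : ZMod 5) • pa P (pa Q (v5 0))) →
    (∃ R : P5, pa R (v5 0) = (3 : ZMod 5) • v5 0 + (2 : ZMod 5) • pa P (v5 0) +
      (4 : ZMod 5) • pa Q (v5 0) + (4 : ZMod 5) • pa P (pa Q (v5 0))) →
    pa P (v5 0) = X1 (v5 0) ∧ pa Q (v5 0) = X2 (v5 0) ∧ pa P (pa Q (v5 0)) = X1 (X2 (v5 0)) := by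
  decide +kernel

theorem pa_y : (4 : ZMod 5) • X2 (v5 0) + (2 : ZMod 5) • X1 (X2 (v5 0)) = (1, 1, 2, 4) := by
  decide +kernel

theorem pa_z1 : dg 1 true false (v5 0) = (3 : ZMod 5) • v5 0 +
    (4 : ZMod 5) • X1 (v5 0) + (2 : ZMod 5) • X2 (v5 0) + (4 : ZMod 5) • X1 (X2 (v5 0)) := by
  decide +kernel

theorem pa_z2 : dg 1 false true (v5 0) = (3 : ZMod 5) • v5 0 +
    (2 : ZMod 5) • X1 (v5 0) + (4 : ZMod 5) • X2 (v5 0) + (4 : ZMod 5) • X1 (X2 (v5 0)) := by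
  decide +kernel

theorem pa_span : ∀ v : W5, ∃ a b c d : ZMod 5,
    v = a • v5 0 + b • X1 (v5 0) + c • X2 (v5 0) + d • X1 (X2 (v5 0)) := fun v =>
  ⟨2 * (v.1 + v.2.1 + v.2.2.1 + v.2.2.2) - v.1, 2 * (v.1 + v.2.1 + v.2.2.1 + v.2.2.2) - v.2.1,
    2 * (v.1 + v.2.1 + v.2.2.1 + v.2.2.2) - v.2.2.1,
    2 * (v.1 + v.2.1 + v.2.2.1 + v.2.2.2) - v.2.2.2, by revert v; decide +kernel⟩

end Cfsg.Bs

set_option linter.all false in
theorem Cfsg.Rz.Bs_Pauli_0 : True := by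
  have := @_root_.Cfsg.Bs.X2.eq_def
  have := @_root_.Cfsg.Bs.X2.eq_1
  have := @_root_.Cfsg.Bs.X2.fun_cases
  have := @_root_.Cfsg.Bs.W5.eq_def
  have := @_root_.Cfsg.Bs.W5.eq_1
  have := @_root_.Cfsg.Bs.W5.fun_cases
  have := @_root_.Cfsg.Bs.pa.eq_def
  have := @_root_.Cfsg.Bs.pa.eq_1
  have := @_root_.Cfsg.Bs.pa.fun_cases
  have := @_root_.Cfsg.Bs.dg.eq_def
  have := @_root_.Cfsg.Bs.dg.eq_1
  have := @_root_.Cfsg.Bs.dg.fun_cases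
  have := @_root_.Cfsg.Bs.sg.eq_def
  have := @_root_.Cfsg.Bs.sg.eq_1
  have := @_root_.Cfsg.Bs.sg.fun_cases
  have := @_root_.Cfsg.Bs.P5.eq_def
  have := @_root_.Cfsg.Bs.P5.eq_1
  have := @_root_.Cfsg.Bs.P5.fun_cases
  have := @_root_.Cfsg.Bs.v5.eq_def
  have := @_root_.Cfsg.Bs.v5.eq_1
  have := @_root_.Cfsg.Bs.v5.fun_cases
  have := @_root_.Cfsg.Bs.X1.eq_def
  have := @_root_.Cfsg.Bs.X1.eq_1
  have := @_root_.Cfsg.Bs.X1.fun_cases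
  trivial
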