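import Cfsg.Agent.Bs.Sub
import Cfsg.Agent.Bs.Pauli

/-! # The case `p = 5`, `r = 2` -/

set_option autoImplicit false
set_option linter.unusedSectionVars false

namespace Cfsg.Bs

open Subgroup
open scoped commutatorElement

theorem fact_five : Fact (Nat.Prime 5) := ⟨Nat.prime_five⟩

attribute [local instance] fact_five

variable {G V : Type*} [Group G] [Finite G] [AddCommGroup V]
  [Module (ZMod 5) V] [DistribMulAction G V] {E D A : Subgroup G} {x y : V}

namespace Frame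

theorem cent_scalar (F : Frame 2 E D A) (h : Ctx 5 G V) (hZ : Semireg (center G) V)
    (hmax : ∀ v : V, v ≠ 0 → (∀ d ∈ D, d • v = v) → ∀ e ∈ E, e • v = v → e ∈ D)
    {c : G} (hc : c ∈ E ⊓ centralizer (D : Set G)) :
    ∃ l : ZMod 5, ∀ w : V, (∀ d ∈ D, d • w = w) → c • w = l • w := by
  have key : ∀ c ∈ E ⊓ centralizer (D : Set G), c ^ 2 = 1 →
      ∃ l : ZMod 5, ∀ w : V, (∀ d ∈ D, d • w = w) → c • w = l • w := fun c hc h2 => by
    by_cases hD : c ∈ D
    · exact ⟨1, fun w hw => by rw [hw c hD, one_smul]⟩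
    · refine ⟨-1, fun w hw => ?_⟩
      rw [neg_smul, one_smul, eq_neg_iff_add_eq_zero]
      by_contra hn
      refine hD (hmax _ hn (fun d hd => ?_) c hc.1 ?_)
      · rw [smul_add, smul_smul, hc.2 d hd, mul_smul, hw d hd]
      · rw [smul_add, smul_smul, ← sq, h2, one_smul, add_comm]
  by_cases h2 : c ^ 2 = 1
  · exact key c hc h2
  obtain ⟨z, hz, hzv⟩ := h.exists_scal (c := 2) (by decide)
  have hn := hZ.neg (F.sym.pow c hc.1) (by simpa [← pow_mul] using F.sym.exp c hc.1) h2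
  have hz2 : ∀ v : V, z ^ 2 • v = -v := fun v => by
    rw [sq, mul_smul, hzv, hzv, smul_smul, show (2 * 2 : ZMod 5) = -1 by decide, neg_smul, one_smul]
  have hzE : z ∈ E := F.sym.full z hz (h.faithful _ fun v => by
    rw [if_pos rfl, show 4 = 2 + 2 from rfl, pow_add, mul_smul, hz2, hz2, neg_neg])
  obtain ⟨l, hl⟩ := key (z * c) (mul_mem ⟨hzE, center_le_centralizer _ hz⟩ hc)
    (h.faithful _ fun v => by
      rw [Commute.mul_pow (mem_center_iff.1 hz c).symm, mul_smul, hn, hz2, neg_neg])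
  refine ⟨3 * l, fun w hw => ?_⟩
  rw [mul_smul, ← hl w hw, mul_smul, hzv, smul_smul, show (3 * 2 : ZMod 5) = 1 by decide, one_smul]

theorem base_of_five_a (F : Frame 2 E D A) (h : Ctx 5 G V) (hZ : Semireg (center G) V)
    (hs : Start E D x y) (h0 : x ≠ 0)
    (hmax : ∀ v : V, v ≠ 0 → (∀ d ∈ D, d • v = v) → ∀ e ∈ E, e • v = v → e ∈ D)
    {v : V} (hv : ∀ d ∈ D, d • v = v) (hn : ∀ l : ZMod 5, v ≠ l • x) : HasBase G V := by
  have ind : ∀ a b : ZMod 5, a • x + b • v = 0 → a = 0 ∧ b = 0 := fun a b e => by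
    have hb : b = 0 := by
      by_contra hb
      refine hn (-(b⁻¹ * a)) ?_
      rw [neg_smul, mul_smul, eq_neg_iff_add_eq_zero, ← smul_right_inj hb, smul_add,
        smul_inv_smul₀ hb, add_comm, e, smul_zero]
    rw [hb, zero_smul, add_zero, smul_eq_zero] at e
    exact ⟨e.resolve_right h0, hb⟩
  let u : Fin 3 → V := fun i => (![1, 0, 1] : Fin 3 → ZMod 5) i • x + (![0, 1, 1] : Fin 3 → ZMod 5) i • v
  have hu : ∀ i, ∀ d ∈ D, d • u i = u i := fun i d hd => by
    simp only [u, smul_add, smul_zmod, hs.fx d hd, hv d hd]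
  have hu0 : ∀ i, u i ≠ 0 := fun i e => by
    have := ind _ _ e
    clear e
    revert i; decide
  refine F.base_of_three h hZ hs u hu hu0 (fun i e he => hmax _ (hu0 i) (hu i) e he.1)
    fun i j e he h1 => ?_
  obtain ⟨l, hl⟩ := F.cent_scalar h hZ hmax he
  rw [hl _ (hu i)] at h1
  have := ind ((![1, 0, 1] : Fin 3 → ZMod 5) j - l * (![1, 0, 1] : Fin 3 → ZMod 5) i)
    ((![0, 1, 1] : Fin 3 → ZMod 5) j - l * (![0, 1, 1] : Fin 3 → ZMod 5) i) (by
      rw [← sub_eq_zero.2 h1]; simp only [u]; module)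
  clear h1 hl
  revert i j l; decide

theorem base_of_five_b [IsCyclic (center G)] (F : Frame 2 E D A) (h : Ctx 5 G V)
    (hZ : Semireg (center G) V) (hs : Start E D x y) (h0 : x ≠ 0)
    (hspan : ∀ w : V, (∀ d ∈ D, d • w = w) → ∃ l : ZMod 5, w = l • x) : HasBase G V := by
  classical
  by_cases hA : ∀ a ∈ A, ∀ b ∈ A, a ≠ 1 → b ≠ 1 → b = a
  · exact F.base_of_col h hZ hs (fun _ => ()) (fun _ => x) (fun _ => hs.fx) (S := ∅) (by simp)
      (fun _ _ _ e he => hs.reg e he.1) (by simp) fun γ hγ _ => MonoidHom.ext fun a => by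
        by_cases ha : a = 1
        · simp [ha]
        · exact Subtype.ext (hA _ a.2 _ (γ a).2 (by simpa using ha)
            (by simpa using (map_eq_one_iff γ hγ).not.2 ha))
  push Not at hA
  obtain ⟨a, ha, b, hb, a1, b1, ba⟩ := hA
  have aa : a * a = 1 := by rw [← sq, F.exp a ha]
  have bb : b * b = 1 := by rw [← sq, F.exp b hb]
  have ab : b * a = a * b := F.comm b hb a ha
  have aE := F.AE ha
  have bE := F.AE hb
  have aa' : ∀ v : V, a • a • v = v := fun v => by rw [smul_smul, aa, one_smul]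
  have bb' : ∀ v : V, b • b • v = v := fun v => by rw [smul_smul, bb, one_smul]
  have ab' : ∀ v : V, b • a • v = a • b • v := fun v => by rw [smul_smul, ab, mul_smul]
  have hH : closure {a, b} ≤ A := (closure_le _).2 (by rintro _ (rfl | rfl) <;> assumption)
  have aH : a ∈ closure {a, b} := Subgroup.subset_closure (by simp)
  have bH : b ∈ closure {a, b} := Subgroup.subset_closure (by simp)
  have hd : ∀ a ∈ A, ∀ b ∈ A, a ≠ 1 → a ≠ b → b * b = 1 →
      ∃ d ∈ D, Commute d b ∧ ¬ Commute d a := fun a ha b hb a1 ab bb => by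
    obtain ⟨d, hd, hn⟩ := F.exists_not_commute (H := closure {b, 1})
      ((closure_le _).2 (by rintro _ (rfl | rfl); exacts [hb, one_mem _])) ha fun e => by
        simpa [a1, ab] using mem_closure_pair_invol bb (mul_one 1) (by simp) e
    exact ⟨d, hd.1, (hd.2 b (Subgroup.subset_closure (by simp))).symm, hn⟩
  obtain ⟨d₁, hd₁, c₁, n₁⟩ := hd a ha b hb a1 (Ne.symm ba) bb
  obtain ⟨d₂, hd₂, c₂, n₂⟩ := hd b hb a ha b1 ba aa
  set D' := D ⊓ centralizer (closure {a, b} : Set G) with hD'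
  have D'E : D' ≤ E := inf_le_left.trans F.DE
  obtain ⟨A', F'⟩ := F.sym.exists_frame D'E fun d hd => F.DZ d hd.1
  let φ : W5 →ₗ[ZMod 5] V := (LinearMap.toSpanSingleton _ _ x).coprod
    ((LinearMap.toSpanSingleton _ _ (a • x)).coprod ((LinearMap.toSpanSingleton _ _ (b • x)).coprod
      (LinearMap.toSpanSingleton _ _ (a • b • x))))
  have hφ : ∀ v, φ v = v.1 • x + (v.2.1 • a • x + (v.2.2.1 • b • x + v.2.2.2 • a • b • x)) :=
    fun v => rfl
  have φa : ∀ v, a • φ v = φ (X1 v) := fun v => by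
    simp only [hφ, X1, smul_add, smul_zmod, aa']; abel
  have φb : ∀ v, b • φ v = φ (X2 v) := fun v => by
    simp only [hφ, X2, smul_add, smul_zmod, bb', ab']; abel
  have sgn : ∀ c ∈ E, ∀ t ∈ E, ∀ v : V, c • t • v = sg (decide ¬ Commute c t) • t • c • v :=
    fun c hc t ht v => by
      by_cases e : Commute c t
      · simp [sg, e, smul_smul, e.eq]
      · simp [sg, e, F.sym.anti hZ hc ht e]
  have φc : ∀ c ∈ E, ∀ l : ZMod 5, c • x = l • x → ∀ v,
      c • φ v = φ (dg l (decide ¬ Commute c a) (decide ¬ Commute c b) v) := fun c hc l hl v => by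
    simp only [hφ, dg, smul_add, smul_zmod, sgn c hc a aE, sgn c hc b bE, hl, mul_smul,
      smul_comm v.1, smul_comm v.2.1, smul_comm v.2.2.1, smul_comm v.2.2.2]
  have φfix : ∀ v, ∀ d ∈ D', d • φ v = φ v := fun v d hd => by
    rw [φc d (D'E hd) 1 (by rw [hs.fx d hd.1, one_smul])]
    have h1 : Commute d a := (hd.2 a aH).symm
    have h2 : Commute d b := (hd.2 b bH).symm
    simp [h1, h2, dg, sg]
  have φinj : Function.Injective φ := by
    refine (injective_iff_map_eq_zero φ).2 fun v hv => ?_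
    have key : ∀ v, φ v = 0 → v.1 = 0 := fun v hv => by
      have := congrArg (av 5 D) hv
      have e : ∀ (l : ZMod 5) (w : V), av 5 D (l • w) = l • av 5 D w := ZMod.map_smul _
      rw [hφ, map_add, map_add, map_add, e, e, e, e, av_of_fix h.cop hs.fx,
        F.av_ne hZ ha a1 hs.fx, F.av_ne hZ hb b1 hs.fx, smul_smul a,
        F.av_ne hZ (mul_mem ha hb) (fun e => ba (by rw [← one_mul b, ← aa, mul_assoc, e, mul_one]))
          hs.fx] at this
      simpa [h0] using this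
    exact Prod.ext (key v hv) (Prod.ext (key (X1 v) (by rw [← φa, hv, smul_zero]))
      (Prod.ext (key (X2 v) (by rw [← φb, hv, smul_zero]))
        (key (X1 (X2 v)) (by rw [← φa, ← φb, hv, smul_zero, smul_zero]))))
  have φsurj : ∀ w : V, (∀ d ∈ D', d • w = w) → w ∈ LinearMap.range φ := fun w hw => by
    haveI := Fintype.ofFinite A
    rw [← F.sum_comp h.cop hZ w]
    refine Submodule.sum_mem _ fun τ _ => ?_
    by_cases hτ : (τ : G) ∈ closure {a, b}
    · obtain ⟨l, hl⟩ := hspan _ fun d hd => smul_av_of_mem (p := 5) hd ((τ : G)⁻¹ • w)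
      rw [hl, smul_zmod]
      refine Submodule.smul_mem _ _ ?_
      rcases mem_closure_pair_invol aa bb ab hτ with e | e | e | e <;> rw [e]
      · exact ⟨(1, 0, 0, 0), by simp [hφ]⟩
      · exact ⟨(0, 1, 0, 0), by simp [hφ]⟩
      · exact ⟨(0, 0, 1, 0), by simp [hφ]⟩
      · exact ⟨(0, 0, 0, 1), by simp [hφ, mul_smul]⟩
    · rw [F.comp_eq_zero hZ hH τ.2 hτ hw, smul_zero]
      exact zero_mem _
  have act : ∀ e ∈ E ⊓ centralizer (D' : Set G), ∃ P : P5, P.1 ≠ 0 ∧ ∀ v, e • φ v = φ (pa P v) := by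
    intro e he
    obtain ⟨k, hk, c, hc, rfl⟩ := F.exists_mul_of_cent hH he
    obtain ⟨l, hl⟩ := hspan (c • x) fun d hd => by rw [smul_smul, hc.2 d hd, mul_smul, hs.fx d hd]
    have l0 : l ≠ 0 := fun e => h0 (by simpa [e, smul_eq_zero_iff_eq] using hl)
    have := φc c hc.1 l hl
    rcases mem_closure_pair_invol aa bb ab hk with e | e | e | e <;> rw [e]
    · exact ⟨(l, _, _, false, false), l0, fun v => by rw [one_mul, this]; rfl⟩
    · exact ⟨(l, _, _, true, false), l0, fun v => by rw [mul_smul, this, φa]; rfl⟩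
    · exact ⟨(l, _, _, false, true), l0, fun v => by rw [mul_smul, this, φb]; rfl⟩
    · exact ⟨(l, _, _, true, true), l0, fun v => by rw [mul_smul, mul_smul, this, φb, φa]; rfl⟩
  have v0 : ∀ i, φ (v5 i) ≠ 0 := fun i e => by
    have := φinj (e.trans (map_zero φ).symm)
    clear e
    revert i; decide
  have reg : ∀ i, ∀ e ∈ E ⊓ centralizer (D' : Set G), e • φ (v5 i) = φ (v5 i) → e ∈ D' := by
    intro i e he h1
    obtain ⟨P, -, hP⟩ := act e he
    have h2 : ∀ v, e • φ v = φ v := fun v => by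
      rw [hP, pa_reg i P (φinj ((hP _).symm.trans h1))]
      simp [pa, dg, sg]
    have h3 : e • x = x := by simpa [hφ] using h2 (1, 0, 0, 0)
    have h4 : ∀ t ∈ E, e • t • x = t • x → Commute t e := fun t ht h => by
      by_contra hn
      refine h0 ((smul_eq_zero_iff_eq t).1 (hZ.eq_zero (F.sym.comm _ ht _ he.1) hn ?_))
      rw [commutatorElement_def, mul_smul, mul_smul, mul_smul, inv_smul_eq_iff.2 h.symm,
        inv_smul_smul, h3]
    have h5 : closure {a, b} ≤ centralizer {e} := (closure_le _).2 (by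
      rintro _ (rfl | rfl)
      · exact mem_centralizer_singleton_iff.2 (h4 _ aE (by simpa [hφ] using h2 (0, 1, 0, 0)))
      · exact mem_centralizer_singleton_iff.2 (h4 _ bE (by simpa [hφ] using h2 (0, 0, 1, 0))))
    exact ⟨hs.reg e he.1 h3, fun t ht => mem_centralizer_singleton_iff.1 (h5 ht)⟩
  have aC : a ∈ E ⊓ centralizer (D' : Set G) := ⟨aE, fun d hd => (hd.2 a aH).symm⟩
  have bC : b ∈ E ⊓ centralizer (D' : Set G) := ⟨bE, fun d hd => (hd.2 b bH).symm⟩
  have dC : ∀ d ∈ D, d ∈ E ⊓ centralizer (D' : Set G) := fun d hd =>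
    ⟨F.DE hd, fun d' hd' => (F.mem_cent hd).2 d' hd'.1⟩
  refine F'.base_of_three h hZ (x := φ (v5 0)) (y := φ (1, 1, 2, 4)) ⟨φfix _, φfix _,
    fun e he h1 => reg 0 e (F.sym.mem_cent_of_fix hZ D'E (v0 0) (φfix _) he h1) h1,
    fun g hg hx hy w hw => ?_⟩ (fun i => φ (v5 i)) (fun i => φfix _) v0 reg fun i j e he h1 => ?_
  · have cj : ∀ e ∈ E ⊓ centralizer (D' : Set G), ∃ P : P5, P.1 ≠ 0 ∧
        ∀ v w, g • φ v = φ w → g • e • φ v = φ (pa P w) := fun e he => by
      obtain ⟨P, h1, h2⟩ := act _ (conj_mem_cent F.sym.normal hg he)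
      refine ⟨P, h1, fun v w e => ?_⟩
      rw [← h2, ← e]
      simp [mul_smul]
    obtain ⟨P, P0, hP⟩ := cj a aC
    obtain ⟨Q, Q0, hQ⟩ := cj b bC
    obtain ⟨R₁, -, hR₁⟩ := cj d₁ (dC _ hd₁)
    obtain ⟨R₂, -, hR₂⟩ := cj d₂ (dC _ hd₂)
    have e1 := hP _ _ hx
    have e2 := hQ _ _ hx
    rw [φb] at e2
    have e3 := hP _ _ e2
    rw [φa] at e1 e3
    have e4 := hR₁ _ _ hx
    have e5 := hR₂ _ _ hx
    rw [φc d₁ (F.DE hd₁) 1 (by rw [hs.fx _ hd₁, one_smul])] at e4
    rw [φc d₂ (F.DE hd₂) 1 (by rw [hs.fx _ hd₂, one_smul])] at e5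
    simp only [c₁, n₁, c₂, n₂, not_true, not_false_iff, decide_true, decide_false, pa_z1, pa_z2,
      map_add, map_smul, smul_add, smul_zmod, hx, e1, e2, e3] at e4 e5
    obtain ⟨f1, f2, f3⟩ := pa_base P P0 Q Q0 (φinj (by
        rw [← hy, ← pa_y]; simp only [map_add, map_smul, smul_add, smul_zmod, e2, e3]))
      ⟨R₁, φinj (by rw [← e4]; simp only [map_add, map_smul])⟩
      ⟨R₂, φinj (by rw [← e5]; simp only [map_add, map_smul])⟩
    obtain ⟨v, rfl⟩ := φsurj w hw
    obtain ⟨a, b, c, d, rfl⟩ := pa_span v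
    rw [f3] at e3
    simp only [map_add, map_smul, smul_add, smul_zmod, hx, e1, e2, e3, f1, f2]
  · obtain ⟨P, -, hP⟩ := act e he
    exact pa_sep i j P (φinj (h1.trans (hP _)))

end Frame

end Cfsg.Bs
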