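import Cfsg.Agent.Bs.Colour
import Cfsg.Agent.Grp.Coprime
import Mathlib.Algebra.Group.Action.Option

/-! # Base size two: imprimitive modules, normal abelian subgroups that are not semiregular -/

set_option autoImplicit false
set_option linter.unusedSectionVars false

namespace Cfsg.Bs

open Subgroup

variable {p : ℕ} [Fact p.Prime] {G V : Type*} [Group G] [Finite G] [AddCommGroup V]
  [Module (ZMod p) V] [Finite V] [DistribMulAction G V]

theorem smul_eq_zero_of_translate (hG : ¬ p ∣ Nat.card G) {k : G} {x y : V} {c : ZMod p}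
    (hx : k • x = x) (hy : k • y = y + c • x) : c • x = 0 := by
  have key : ∀ n : ℕ, k ^ n • y = y + (n : ZMod p) • c • x := fun n => by
    induction n with
    | zero => simp
    | succ n ih =>
      rw [pow_succ', mul_smul, ih, smul_add, smul_zmod, smul_zmod, hx, hy, Nat.cast_succ,
        add_smul, one_smul]
      abel
  have h1 := key (Nat.card G)
  rw [pow_card_eq_one', one_smul, left_eq_add, smul_eq_zero] at h1
  exact h1.resolve_left fun e => hG ((ZMod.natCast_eq_zero_iff _ _).1 e)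

/-- `V` is the direct sum of proper subspaces permuted by `G` -/
theorem Ctx.base_of_imprim (h : Ctx p G V) {I : Type*} [Fintype I] [MulAction G I]
    (W : I → Submodule (ZMod p) V) (hW : ∀ (g : G) i, ∀ w ∈ W i, g • w ∈ W (g • i))
    (ht : ∀ i, W i ≠ ⊤) (hb : ∀ i, W i = ⊥ → ∀ g : G, g • i = i)
    (hind : ∀ w : I → V, (∀ i, w i ∈ W i) → ∑ i, w i = 0 → ∀ i, w i = 0)
    (hsp : ∀ v, ∃ w : I → V, (∀ i, w i ∈ W i) ∧ ∑ i, w i = v) : HasBase G V := by
  have := h.solv
  obtain ⟨f, hf⟩ := exists_colouring (G := G) (Ω := I) h.odd h.cop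
  obtain ⟨rep, t, hrt, hr⟩ := exists_orbit_rep G I
  have hxy : ∀ j, ∃ x ∈ W j, ∃ y ∈ W j, (x = 0 → W j = ⊥) ∧
      ∀ b : G, b • j = j → b • x = x → b • y = y → ∀ w ∈ W j, b • w = w := fun j => by
    by_cases h0 : W j = ⊥
    · refine ⟨0, zero_mem _, 0, zero_mem _, fun _ => h0, fun b _ _ _ w hw => ?_⟩
      rw [h0, Submodule.mem_bot] at hw
      rw [hw, smul_zero]
    · obtain ⟨x, hx, y, hy, h1, -, h2⟩ := h.ih (MulAction.stabilizer G j) (W j) (ht j) h0
        fun b hb w hw => by
          have := hW b j w hw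
          rwa [show b • j = j from hb] at this
      exact ⟨x, hx, y, hy, fun e => absurd e h1, h2⟩
  choose x hx y hy h0 hxy using hxy
  have key : ∀ (g : G) (z : I → V), (∀ i, z i ∈ W i) → g • ∑ i, z i = ∑ i, z i →
      ∀ i, g • z i = z (g • i) := fun g z hz e i => by
    have := hind (fun i => g • z (g⁻¹ • i) - z i) (fun i => sub_mem (by
      have := hW g _ _ (hz (g⁻¹ • i))
      rwa [smul_inv_smul] at this) (hz i)) (by
      rw [Finset.sum_sub_distrib, sub_eq_zero, ← e, Finset.smul_sum]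
      exact Fintype.sum_equiv (MulAction.toPerm g⁻¹) _ _ fun _ => rfl) (g • i)
    rwa [inv_smul_smul, sub_eq_zero] at this
  have hm : ∀ i, ∀ w ∈ W (rep i), t i • w ∈ W i := fun i w hw => by
    have := hW (t i) _ _ hw
    rwa [hrt] at this
  refine ⟨∑ i, t i • x (rep i), ∑ i, t i • (y (rep i) + f i • x (rep i)), fun g e1 e2 => ?_⟩
  have k0 : ∀ i, ((t (g • i))⁻¹ * g * t i) • rep i = rep i := fun i => by
    rw [mul_smul, mul_smul, hrt, inv_smul_eq_iff, ← hr g i, hrt]
  have k1 : ∀ i, ((t (g • i))⁻¹ * g * t i) • x (rep i) = x (rep i) := fun i => by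
    have := key g _ (fun i => hm i _ (hx _)) e1 i
    rw [mul_smul, mul_smul, inv_smul_eq_iff, this, hr]
  have k2 : ∀ i, ((t (g • i))⁻¹ * g * t i) • y (rep i) =
      y (rep i) + (f (g • i) - f i) • x (rep i) := fun i => by
    have := key g _ (fun i => hm i _ (add_mem (hy _) (Submodule.smul_mem _ _ (hx _)))) e2 i
    rw [hr, ← inv_smul_eq_iff, ← mul_smul, ← mul_smul, smul_add, smul_zmod, k1] at this
    rw [sub_smul, ← add_sub_assoc, ← this, add_sub_cancel_right]
  have k3 := fun i => smul_eq_zero_of_translate h.cop (k1 i) (k2 i)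
  have k4 : ∀ i, g • i = i := hf g fun i => by
    rcases smul_eq_zero.1 (k3 i) with e | e
    · exact sub_eq_zero.1 e
    · rw [← hrt i, hb _ (h0 _ e), hb _ (h0 _ e)]
  refine h.faithful g fun v => ?_
  obtain ⟨w, hw, rfl⟩ := hsp v
  rw [Finset.smul_sum]
  refine Finset.sum_congr rfl fun i _ => ?_
  have k5 := hxy _ _ (k0 i) (k1 i) (by rw [k2, k3, add_zero]) ((t i)⁻¹ • w i) (by
    have := hW (t i)⁻¹ _ _ (hw i)
    rwa [inv_smul_eq_iff.2 (hrt i).symm] at this)
  rwa [k4, mul_smul, mul_smul, smul_inv_smul, smul_left_cancel_iff] at k5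

theorem exists_norm (p : ℕ) [Fact p.Prime] (G V : Type*) [Group G] [Finite G] [AddCommGroup V]
    [Module (ZMod p) V] [DistribMulAction G V] : ∃ N : Subgroup G → V →ₗ[ZMod p] V,
    (∀ (g : G) (K K' : Subgroup G), (∀ x, x ∈ K ↔ g * x * g⁻¹ ∈ K') →
      ∀ v, g • N K v = N K' (g • v)) ∧
    (∀ K : Subgroup G, ∀ k ∈ K, ∀ v, k • N K v = N K v) ∧
    ∀ (K : Subgroup G) v, (∀ k ∈ K, k • v = v) → N K v = (Nat.card K : ZMod p) • v := by
  classical
  let _ := Fintype.ofFinite G
  have : SMulCommClass G (ZMod p) V := ⟨smul_zmod⟩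
  refine ⟨fun K => ∑ k with k ∈ K, DistribSMul.toLinearMap (ZMod p) V k, fun g K K' h v => ?_,
    fun K k hk v => ?_, fun K v h => ?_⟩
  · simp only [LinearMap.sum_apply, DistribSMul.toLinearMap_apply, Finset.smul_sum]
    refine Finset.sum_equiv (MulAut.conj g).toEquiv (fun x => by simpa using h x) fun x _ => ?_
    simp [← mul_smul]
  · simp only [LinearMap.sum_apply, DistribSMul.toLinearMap_apply, Finset.smul_sum]
    refine Finset.sum_equiv (Equiv.mulLeft k) (fun x => by simp [K.mul_mem_cancel_left hk])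
      fun x _ => ?_
    simp [mul_smul]
  · simp only [LinearMap.sum_apply, DistribSMul.toLinearMap_apply]
    rw [Finset.sum_congr rfl fun x hx => h x (Finset.mem_filter.1 hx).2, Finset.sum_const,
      Nat.cast_smul_eq_nsmul, Nat.card_eq_fintype_card, Fintype.card_subtype]

theorem Ctx.base_of_not_semireg (h : Ctx p G V) (U : Subgroup G) [hUn : U.Normal]
    (hU : ∀ a ∈ U, ∀ b ∈ U, Commute a b) (hn : ¬ Semireg U V) : HasBase G V := by
  classical
  obtain ⟨N, N1, N2, N3⟩ := exists_norm p G V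
  have hK0 : ∀ K : Subgroup G, (Nat.card K : ZMod p) ≠ 0 := fun K e =>
    h.cop (((ZMod.natCast_eq_zero_iff _ _).1 e).trans (card_subgroup_dvd_card K))
  let P : Subgroup G → Prop := fun K => K ≤ U ∧ ∃ v : V, v ≠ 0 ∧ ∀ k ∈ K, k • v = v
  obtain ⟨u, hu, v₀, huv, hu1, hv0⟩ : ∃ u ∈ U, ∃ v : V, u • v = v ∧ u ≠ 1 ∧ v ≠ 0 := by
    by_contra hc
    push Not at hc
    exact hn fun u hu v e => (em (u = 1)).imp_right (hc u hu v e)
  have hPu : P (zpowers u) := ⟨zpowers_le_of_mem hu, v₀, hv0, fun k hk =>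
    (zpowers_le_of_mem (show u ∈ MulAction.stabilizer G v₀ from huv)) hk⟩
  let _ := IsCoprimeAction.conjSubgroupAction G
  have hmem : ∀ (g : G) (K : Subgroup G) x, x ∈ K ↔ g * x * g⁻¹ ∈ g • K := fun g K x =>
    (mem_map_iff_mem (f := (MulAut.conj g).toMonoidHom) (MulAut.conj g).injective).symm
  have hfix : ∀ (g : G) (K : Subgroup G) (v : V), (∀ k ∈ K, k • v = v) →
      ∀ k ∈ g • K, k • g • v = g • v := by
    rintro g K v hv _ ⟨k, hk, rfl⟩
    change (g * k * g⁻¹) • g • v = _
    rw [mul_smul, inv_smul_smul, mul_smul, hv k hk]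
  have hP : ∀ (g : G) K, P K → P (g • K) := by
    rintro g K ⟨h1, v, h2, h3⟩
    refine ⟨?_, g • v, fun e => h2 ((smul_eq_zero_iff_eq g).1 e), hfix g K v h3⟩
    rintro _ ⟨k, hk, rfl⟩
    exact hUn.conj_mem _ (h1 hk) g
  have hmono : ∀ (g : G) (K K' : Subgroup G), K ≤ K' → g • K ≤ g • K' := fun g K K' e =>
    map_mono e
  let I : SubMulAction G (Subgroup G) := ⟨{K | Maximal P K}, fun g K hK => ⟨hP g K hK.1,
    fun K' h1 h2 => by
      have h3 := hmono g⁻¹ _ _ h2
      rw [inv_smul_smul] at h3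
      have h4 := hmono g _ _ (hK.2 (hP g⁻¹ K' h1) h3)
      rwa [smul_inv_smul] at h4⟩⟩
  let _ := Fintype.ofFinite I
  let F : I → Submodule (ZMod p) V := fun K =>
    { carrier := {v | ∀ k ∈ (K : Subgroup G), k • v = v}
      add_mem' := fun ha hb k hk => by rw [smul_add, ha k hk, hb k hk]
      zero_mem' := fun k _ => smul_zero k
      smul_mem' := fun c v hv k hk => by rw [smul_zmod, hv k hk] }
  have horth : ∀ K K' : I, K ≠ K' → ∀ w ∈ F K', N K w = 0 := fun K K' hne w hw => by
    by_contra h0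
    have h1 : P ((K : Subgroup G) ⊔ K') := by
      refine ⟨sup_le K.2.1.1 K'.2.1.1, _, h0, ?_⟩
      refine (sup_le (fun k hk => N2 K k hk w) fun k hk => ?_ :
        (K : Subgroup G) ⊔ K' ≤ MulAction.stabilizer G (N K w))
      change k • N K w = N K w
      rw [N1 k K K (fun x => ⟨fun hx => ?_, fun hx => ?_⟩), hw k hk]
      · rwa [(hU k (K'.2.1.1 hk) x (K.2.1.1 hx)).eq, mul_inv_cancel_right]
      · have := (hU k (K'.2.1.1 hk) _ (K.2.1.1 hx)).eq
        rw [inv_mul_cancel_right, mul_right_inj] at this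
        rwa [this] at hx
    exact hne (Subtype.ext (le_antisymm (le_sup_left.trans (K'.2.2 h1 le_sup_right))
      (le_sup_right.trans (K.2.2 h1 le_sup_left))))
  have hsum : ∀ (K : I) (w : I → V), (∀ K', w K' ∈ F K') →
      N K (∑ K', w K') = (Nat.card (K : Subgroup G) : ZMod p) • w K := fun K w hw => by
    rw [map_sum, Finset.sum_eq_single K (fun K' _ e => horth K K' e.symm _ (hw K')) (by simp),
      N3 _ _ (hw K)]
  refine h.base_of_imprim (I := Option I)
    (fun o => o.elim (⨅ K : I, LinearMap.ker (N K)) F) ?_ ?_ ?_ (fun w hw e => ?_) fun v => ?_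
  · rintro g (_ | K) w hw
    · refine (Submodule.mem_iInf _).2 fun K => ?_
      have := N1 g (g⁻¹ • K : I) K (fun x => by
        rw [hmem g]
        exact (smul_inv_smul g (K : Subgroup G)).symm ▸ Iff.rfl) w
      rw [LinearMap.mem_ker, ← this,
        LinearMap.mem_ker.1 ((Submodule.mem_iInf _).1 hw (g⁻¹ • K)), smul_zero]
    · exact hfix g K w hw
  · rintro (_ | K) e
    · obtain ⟨K, -, hK⟩ := Finite.exists_le_maximal hPu
      obtain ⟨v, h1, h2⟩ := hK.1.2
      have := LinearMap.mem_ker.1 ((Submodule.mem_iInf _).1 (e.ge (Submodule.mem_top (x := v)))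
        ⟨K, hK⟩)
      rw [N3 _ _ h2, smul_eq_zero] at this
      exact this.elim (hK0 K) h1
    · have h1 : (K : Subgroup G) ≤ ⊥ := fun k hk =>
        h.faithful k fun v => e.ge (Submodule.mem_top (x := v)) k hk
      exact hu1 (h1 (K.2.2 hPu (h1.trans bot_le) (mem_zpowers u)))
  · rintro (_ | K) e g
    · rfl
    · obtain ⟨v, h1, h2⟩ := K.2.1.2
      exact absurd (e.le (show v ∈ F K from h2)) h1
  · rw [Fintype.sum_option] at e
    have h1 : ∀ K : I, w (some K) = 0 := fun K => by
      have := congrArg (N K) e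
      rw [map_add, hsum K _ fun K' => hw (some K'), map_zero,
        LinearMap.mem_ker.1 ((Submodule.mem_iInf _).1 (hw none) K), zero_add,
        smul_eq_zero] at this
      exact this.resolve_left (hK0 _)
    rintro (_ | K)
    · simpa [h1] using e
    · exact h1 K
  · have h1 : ∀ K : I, (Nat.card (K : Subgroup G) : ZMod p)⁻¹ • N K v ∈ F K := fun K =>
      Submodule.smul_mem _ _ fun k hk => N2 K k hk v
    refine ⟨fun o => o.elim (v - ∑ K : I, (Nat.card (K : Subgroup G) : ZMod p)⁻¹ • N K v)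
      fun K => (Nat.card (K : Subgroup G) : ZMod p)⁻¹ • N K v, ?_, ?_⟩
    · rintro (_ | K)
      · refine (Submodule.mem_iInf _).2 fun K => LinearMap.mem_ker.2 ?_
        change N K (v - _) = 0
        rw [map_sub, hsum K _ h1, smul_smul, mul_inv_cancel₀ (hK0 _), one_smul, sub_self]
      · exact h1 K
    · rw [Fintype.sum_option]
      exact sub_add_cancel _ _

end Cfsg.Bs
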