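import Cfsg.Agent.Bs.Semi
import Mathlib.FieldTheory.Finite.Basic

/-! # A semiregular normal subgroup of symplectic type is quaternion -/

set_option autoImplicit false
set_option linter.unusedSectionVars false

namespace Cfsg.Bs

open Subgroup
open scoped commutatorElement

section Alg

variable {k R : Type*} [CommRing k] [Ring R] [Algebra k R] {A B : R}

theorem quat_anti (hA : A * A = -1) (hB : B * B = -1) (h : B * A = -(A * B)) (x y z x' y' z' : k) :
    (x • A + y • B + z • (A * B)) * (x' • A + y' • B + z' • (A * B)) +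
      (x' • A + y' • B + z' • (A * B)) * (x • A + y • B + z • (A * B)) =
        (-2 * (x * x' + y * y' + z * z')) • (1 : R) := by
  have h1 : A * (A * B) = -B := by rw [← mul_assoc, hA, neg_one_mul]
  have h2 : A * B * A = B := by rw [mul_assoc, h, mul_neg, h1, neg_neg]
  have h3 : B * (A * B) = A := by rw [← mul_assoc, h, neg_mul, mul_assoc, hB]; simp
  have h4 : A * B * B = -A := by rw [mul_assoc, hB, mul_neg_one]
  have h5 : A * B * (A * B) = -1 := by rw [mul_assoc, h3, hA]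
  simp only [add_mul, mul_add, smul_mul_smul_comm, hA, hB, h, h1, h2, h3, h4, h5]
  module

theorem quat_span {M : Submonoid R} (h1 : ∀ X ∈ M, X * X = 1 → X = 1 ∨ X = -1)
    (h2 : ∀ X ∈ M, X * X = 1 ∨ X * X = -1) (h3 : ∀ X ∈ M, ∀ Y ∈ M, X * Y = Y * X ∨ X * Y = -(Y * X))
    (hA : A ∈ M) (hB : B ∈ M) (hA' : A * A = -1) (hB' : B * B = -1) (h : B * A = -(A * B))
    (hn : B * A ≠ A * B) {X : R} (hX : X ∈ M) (hX' : X * X ≠ 1) :
    ∃ x y z : k, X = x • A + y • B + z • (A * B) := by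
  have key : ∀ Y ∈ M, Y * A = A * Y → Y * B = B * Y → Y = 1 ∨ Y = -1 := fun Y hY e e' =>
    h1 Y hY ((h2 Y hY).resolve_right fun e'' => hn (by
      have h4 : Y * A * B = B * (Y * A) := by
        rcases h1 _ (mul_mem hY hA) (by rw [mul_assoc, ← mul_assoc A, ← e, mul_assoc, ← mul_assoc, e'', hA']; simp)
          with e | e <;> simp [e]
      have := congrArg (Y * ·) h4
      simp only [← mul_assoc B, ← e'] at this
      simpa [← mul_assoc, e''] using this.symm))
  have h4 : ∀ Y : R, Y * Y = -1 → X * Y = 1 ∨ X * Y = -1 → ∃ c : k, X = c • Y :=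
    fun Y hY e => by
      have : X = -(X * Y * Y) := by simp [mul_assoc, hY]
      exact e.elim (fun e => ⟨-1, by simpa [e] using this⟩) fun e => ⟨1, by simpa [e] using this⟩
  have h5 : A * B = -(B * A) := by simp [h]
  rcases h3 X hX A hA with e | e <;> rcases h3 X hX B hB with e' | e'
  · exact (hX' (by rcases key X hX e e' with e | e <;> simp [e])).elim
  · rcases h4 A hA' (key _ (mul_mem hX hA) (by rw [e, mul_assoc, e]) (by
      rw [mul_assoc, h5, mul_neg, ← mul_assoc, e', neg_mul, neg_neg, mul_assoc])) with ⟨c, e⟩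
    exact ⟨c, 0, 0, by simpa⟩
  · rcases h4 B hB' (key _ (mul_mem hX hB) (by
      rw [mul_assoc, h, mul_neg, ← mul_assoc, e, neg_mul, neg_neg, mul_assoc]) (by
      rw [e', mul_assoc, e'])) with ⟨c, e⟩
    exact ⟨0, c, 0, by simpa⟩
  · rcases h4 (A * B) (by rw [mul_assoc, ← mul_assoc B, h, neg_mul, mul_assoc, hB']; simp [hA'])
      (key _ (mul_mem hX (mul_mem hA hB)) (by
        rw [mul_assoc, mul_assoc, h, mul_neg, mul_neg, ← mul_assoc X, e, neg_mul, neg_neg, mul_assoc]) (by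
        rw [← mul_assoc B, ← neg_eq_iff_eq_neg.2 e', neg_mul, mul_assoc X B, ← mul_assoc B, h]
        simp [mul_assoc])) with ⟨c, e⟩
    exact ⟨0, 0, c, by simpa⟩

end Alg

variable {p : ℕ} [Fact p.Prime] {G V : Type*} [Group G] [Finite G] [AddCommGroup V]
  [Module (ZMod p) V] [Finite V] [DistribMulAction G V]

variable (G) in
/-- The stabiliser of a subspace. -/
def stabSub (W : Submodule (ZMod p) V) : Subgroup G where
  carrier := {g | ∀ v, g • v ∈ W ↔ v ∈ W}
  one_mem' := by simp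
  mul_mem' {g h} hg hh v := by rw [mul_smul, hg, hh]
  inv_mem' {g} hg v := by rw [← hg, smul_inv_smul]

theorem Ctx.base_of_quaternion (h : Ctx p G V) {E : Subgroup G} (hE : Sym 2 E)
    (hs : Semireg E V) : HasBase G V := by
  haveI : SMulCommClass G (ZMod p) V := ⟨smul_zmod⟩
  let ρ := DistribMulAction.toModuleEnd (S := G) (ZMod p) V
  have hρ : ∀ g v, ρ g v = g • v := fun _ _ => rfl
  have h0 : Function.Injective ρ := (injective_iff_map_eq_one ρ).2 fun g e =>
    h.faithful g fun v => DFunLike.congr_fun e v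
  have h1 : ∀ e ∈ E, e * e = 1 → ρ e = 1 ∨ ρ e = -1 := fun e he e' => (em (e = 1)).imp (by simp [·])
    fun e'' => LinearMap.ext fun v => eq_neg_of_add_eq_zero_left ((hs e he _ (by
      rw [smul_add, hρ, ← mul_smul, e', one_smul, add_comm]; rfl)).resolve_left e'')
  have h2 : ∀ e ∈ E, ρ e * ρ e = 1 ∨ ρ e * ρ e = -1 := fun e he => map_mul ρ e e ▸ h1 _ (mul_mem he he)
    (by simpa [pow_succ, mul_assoc] using hE.exp e he)
  have h3 : ∀ a ∈ E, ∀ b ∈ E, ρ a * ρ b = ρ b * ρ a ∨ ρ a * ρ b = -(ρ b * ρ a) := fun a ha b hb => by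
    have h3 : a * b = ⁅a, b⁆ * (b * a) := by simp [commutatorElement_def, mul_assoc]
    rw [← map_mul, h3, map_mul, map_mul]
    refine (h1 _ (mul_mem (mul_mem (mul_mem ha hb) (inv_mem ha)) (inv_mem hb)) ?_).imp
      (fun e => by rw [commutatorElement_def, e, one_mul]) fun e => by rw [commutatorElement_def, e, neg_one_mul]
    have h4 := mem_center_iff.1 (hE.comm a ha b hb) a
    have h5 := mem_center_iff.1 (hE.pow a ha) b
    rw [commutatorElement_def] at h4
    calc _ = a * b * a⁻¹ * b⁻¹ * a * b * a⁻¹ * b⁻¹ := by simp only [mul_assoc]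
      _ = a ^ 2 * b * a⁻¹ * (b⁻¹ * b) * a⁻¹ * b⁻¹ := by rw [← h4]; simp only [sq, mul_assoc]
      _ = 1 := by rw [← h5]; group
  have h4 : ∀ a ∈ E, ∀ b, a * b ≠ b * a → ρ a * ρ a ≠ 1 := fun a ha b e e' => e (h0 (by
    rcases h1 a ha (h0 (by simpa)) with e | e <;> simp [e]))
  obtain ⟨a, ha, ha'⟩ := SetLike.not_le_iff_exists.1 hE.noncent
  obtain ⟨b, hb, hab⟩ : ∃ b ∈ E, b * a ≠ a * b := by
    by_contra! e
    exact ha' (hE.cent a ha fun b hb => (e b hb).symm)
  have h5 : ρ b * ρ a ≠ ρ a * ρ b := fun e => hab (h0 (by simpa))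
  have hA := (h2 a ha).resolve_left (h4 a ha b hab.symm)
  have hB := (h2 b hb).resolve_left (h4 b hb a hab)
  have h6 := (h3 b hb a ha).resolve_left h5
  have h7 : ∀ e ∈ E, ∀ f, e * f ≠ f * e → ∀ g : G, ∃ x y z : ZMod p,
      ρ g * ρ e = (x • ρ a + y • ρ b + z • (ρ a * ρ b)) * ρ g := fun e he f hf g => by
    have he' := hE.normal.conj_mem e he g
    obtain ⟨x, y, z, h7⟩ := quat_span (k := ZMod p) (M := E.toSubmonoid.map ρ)
      (by rintro _ ⟨e, he, rfl⟩ e'; exact h1 e he (h0 (by simpa)))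
      (by rintro _ ⟨e, he, rfl⟩; exact h2 e he) (by rintro _ ⟨e, he, rfl⟩ _ ⟨f, hf, rfl⟩; exact h3 e he f hf)
      ⟨a, ha, rfl⟩ ⟨b, hb, rfl⟩ hA hB h6 h5 ⟨_, he', rfl⟩
      (h4 _ he' (g * f * g⁻¹) (by simpa [conj_mul]))
    exact ⟨x, y, z, by rw [← h7, ← map_mul, ← map_mul, inv_mul_cancel_right]⟩
  obtain ⟨β, γ, h8⟩ := ZMod.sq_add_sq p (-1)
  have two : (2 : ZMod p) ≠ 0 := fun e => h.odd
    ((Nat.prime_dvd_prime_iff_eq Fact.out Nat.prime_two).1 ((ZMod.natCast_eq_zero_iff 2 p).1 e))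
  have h9 := quat_anti (k := ZMod p) hA hB h6
  obtain ⟨ν, hν⟩ : ∃ ν, ν = (1 : ZMod p) • ρ a + β • ρ b + γ • (ρ a * ρ b) := ⟨_, rfl⟩
  have h10 : ∀ v, ν (ν v) = 0 := fun v => by
    have := DFunLike.congr_fun (h9 1 β γ 1 β γ) v
    rw [← hν, show -2 * (1 * 1 + β * β + γ * γ) = 0 by linear_combination -2 * h8] at this
    simpa [← two_smul (ZMod p), two] using this
  obtain ⟨μ, h11⟩ : ∃ μ : Module.End (ZMod p) V, ν * μ + μ * ν = 1 :=
    ⟨_, by rw [hν, h9 1 β γ (-2⁻¹) 0 0]; simp [two]⟩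
  have h12 : ν ≠ 0 := fun e => h5 (by rw [← mul_one (ρ b * _), ← mul_one (ρ a * _), ← h11, e]; simp)
  obtain ⟨x, hx, y, hy, hx', -, h13⟩ := h.ih (stabSub G (LinearMap.ker ν)) (LinearMap.ker ν)
    (mt LinearMap.ker_eq_top.1 h12) (fun e => h12 (LinearMap.ext fun v => e.le (h10 v))) fun g hg w => (hg w).2
  obtain ⟨y', h14, h15⟩ := exists_avg_mod h.cop (stabSub G (Submodule.span (ZMod p) {x})) _
    (fun g hg w => (hg w).2) y
  obtain ⟨c, hc⟩ := Submodule.mem_span_singleton.1 h14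
  have h16 : ν (μ (y' + x)) = y' + x := by
    have : ν (y' + x) = 0 := by
      rw [eq_sub_iff_add_eq.1 hc |>.symm]
      exact add_mem (add_mem (Submodule.smul_mem _ c hx) hy) hx
    simpa [this, -map_add] using DFunLike.congr_fun h11 (y' + x)
  refine ⟨x, μ (y' + x), fun g e e' => ?_⟩
  obtain ⟨l, hl⟩ : ∃ l : ZMod p, ρ g * ν = l • ν * ρ g := by
    obtain ⟨x₁, y₁, z₁, e₁⟩ := h7 a ha b hab.symm g
    obtain ⟨x₂, y₂, z₂, e₂⟩ := h7 b hb a hab g
    obtain ⟨x₃, y₃, z₃, e₃⟩ := h7 _ (mul_mem ha hb) a (by simpa [mul_assoc]) g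
    obtain ⟨r, s, t, h17⟩ : ∃ r s t : ZMod p, ρ g * ν = (r • ρ a + s • ρ b + t • (ρ a * ρ b)) * ρ g :=
      ⟨x₁ + β * x₂ + γ * x₃, y₁ + β * y₂ + γ * y₃, z₁ + β * z₂ + γ * z₃, by
        rw [map_mul] at e₃
        simp only [hν, mul_add, mul_smul_comm, e₁, e₂, e₃, add_mul, smul_mul_assoc]
        module⟩
    have h18 : (r • ρ a + s • ρ b + t • (ρ a * ρ b)) x = 0 := by
      have := DFunLike.congr_fun h17 x
      rwa [Module.End.mul_apply, hx, map_zero, Module.End.mul_apply, hρ, e, eq_comm] at this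
    have h19 := DFunLike.congr_fun (h9 r s t r s t) x
    have h20 := DFunLike.congr_fun (h9 r s t 1 β γ) x
    simp only [LinearMap.add_apply _ (_ * _), Module.End.mul_apply _ _ x, ← hν, h18, LinearMap.mem_ker.1 hx,
      map_zero, add_zero, LinearMap.smul_apply, Module.End.one_apply, eq_comm (a := (0 : V)), smul_eq_zero,
      hx', or_false, mul_eq_zero, neg_eq_zero, two, false_or] at h19 h20
    have h21 : γ * s - β * t = 0 := pow_eq_zero_iff two_ne_zero |>.1 (by
      linear_combination (s ^ 2 + t ^ 2) * h8 - h19 + (r - β * s - γ * t) * h20)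
    refine ⟨r, ?_⟩
    rw [h17, hν, show s = r * β by linear_combination -β * h20 - γ * h21 + s * h8,
      show t = r * γ by linear_combination -γ * h20 + β * h21 + t * h8]
    congr 1
    module
  replace hl : ∀ v, g • ν v = l • ν (g • v) := DFunLike.congr_fun hl
  have h17 : l ≠ 0 := fun e => h12 (LinearMap.ext fun v => by simpa [e, smul_eq_zero_iff_eq] using hl v)
  have h18 := hl (μ (y' + x))
  rw [e', h16] at h18
  obtain ⟨z, hz⟩ := h.scal l⁻¹ (inv_ne_zero h17)
  have h19 : (z * g) • y' - y' = (1 - l⁻¹) • x := by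
    rw [smul_add, e, ← eq_sub_iff_add_eq] at h18
    rw [mul_smul, hz, h18, smul_sub, inv_smul_smul₀ h17]
    module
  have h20 : l = 1 := by
    rw [h15 _ (fun v => ?_) (h19 ▸ Submodule.smul_mem _ _ (Submodule.mem_span_singleton_self x)), sub_self,
      eq_comm, smul_eq_zero, sub_eq_zero, eq_comm, inv_eq_one] at h19
    · exact h19.resolve_right hx'
    simp only [Submodule.mem_span_singleton, mul_smul, hz]
    exact ⟨fun ⟨d, hd⟩ => ⟨l * d, MulAction.injective g (by
      simp only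
      rw [smul_zmod, e, mul_smul, hd, smul_inv_smul₀ h17])⟩, fun ⟨d, hd⟩ =>
      ⟨l⁻¹ * d, by rw [← hd, smul_zmod, e, mul_smul]⟩⟩
  simp only [h20, one_smul] at hl h18
  rw [smul_add, e, add_left_inj] at h18
  have h21 : g ∈ stabSub G (LinearMap.ker ν) := fun v => by simp [← hl, smul_eq_zero_iff_eq]
  have h22 := h13 g h21 e (by rw [← sub_sub_cancel y' y, ← hc, smul_sub, h18, smul_zmod, e])
  refine h.faithful g fun v => ?_
  obtain ⟨v', h23, h24⟩ := exists_avg_mod h.cop _ (LinearMap.ker ν) (fun g (hg : g ∈ stabSub G _) w => (hg w).2) v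
  rw [← sub_sub_cancel v' v, smul_sub, h22 _ h23, h24 g h21 (by simp [← hl, h22 _ (h10 v')])]

end Cfsg.Bs

set_option linter.all false in
theorem Cfsg.Rz.Bs_Quat_0 : True := by
  have := @_root_.Cfsg.Bs.stabSub.eq_def.{0, 0}
  have := @_root_.Cfsg.Bs.stabSub.eq_1.{0, 0}
  have := @_root_.Cfsg.Bs.stabSub.fun_cases
  trivial
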