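import Cfsg.Agent.Bs.Defs

/-! # Products of two symplectic reflections in characteristic three -/

set_option autoImplicit false

namespace Cfsg.Bs

open Subgroup Polynomial

variable {R : Type*} [Ring R]

theorem pow_thirtysix (h3 : (3 : R) = 0) {c : R} (h : (c - 1) ^ 8 = c ^ 2 * (c - 1) ^ 4) :
    c ^ 36 = 1 := by
  have key : (X ^ 36 - 1 : ℤ[X]) = (X ^ 4 - 1) ^ 5 * (X + 1) ^ 2 * (X ^ 2 + 1) ^ 3 *
      ((X - 1) ^ 8 - X ^ 2 * (X - 1) ^ 4) + 3 * ((X ^ 4 - 1) ^ 5 * (X - 1) ^ 4 * (X + 1) ^ 2 *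
      (X ^ 2 + 1) ^ 3 * (X * (X ^ 2 + 1 + (X + 1) ^ 2) - 3 * X ^ 2) +
      (3 * X ^ 32 - 12 * X ^ 28 + 28 * X ^ 24 - 42 * X ^ 20 + 42 * X ^ 16 - 28 * X ^ 12 +
        12 * X ^ 8 - 3 * X ^ 4)) := by ring
  have := congrArg (aeval c) key
  rw [map_add, map_mul _ 3, map_ofNat, h3, zero_mul, add_zero, map_mul] at this
  simpa [h, sub_eq_zero] using this

theorem cube_add (h3 : (3 : R) = 0) {a b : R} (h : Commute a b) : (a + b) ^ 3 = a ^ 3 + b ^ 3 := by
  have : (a + b) ^ 3 = a ^ 3 + b ^ 3 + 3 * (a * a * b + a * b * b) := by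
    have e : b * a = a * b := h.symm
    have e' : ∀ x, b * (a * x) = a * (b * x) := fun x => by rw [← mul_assoc, e, mul_assoc]
    simp only [pow_succ, pow_zero, one_mul, mul_add, add_mul, mul_assoc, e, e']
    noncomm_ring
  rw [this, h3, zero_mul, add_zero]

theorem refl_pow (h3 : (3 : R) = 0) {P Q : R} (hP : P * P = P) (hQ : Q * Q = Q)
    (h1 : (P * Q * P) ^ 3 = P * Q * P) (h2 : (Q * P * Q) ^ 3 = Q * P * Q) :
    ((1 + P) * (1 + Q)) ^ 36 = 1 := by
  have key : ∀ P Q : R, P * P = P → Q * Q = Q → (P * Q * P) ^ 3 = P * Q * P →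
      ((P - Q) * (P - Q)) ^ 3 * P = (P - Q) * (P - Q) * P := fun P Q hP hQ h1 => by
    have hP' : ∀ x, P * (P * x) = P * x := fun x => by rw [← mul_assoc, hP]
    have hQ' : ∀ x, Q * (Q * x) = Q * x := fun x => by rw [← mul_assoc, hQ]
    have e1 : (P - Q) * (P - Q) * P = P + -(P * Q * P) := by
      simp only [sub_mul, mul_sub, mul_assoc, hP, hQ']; abel
    have e2 : Commute ((P - Q) * (P - Q)) P := by
      change _ = _
      rw [e1]; simp only [sub_mul, mul_sub, mul_assoc, hP, hQ, hP']; abel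
    have e3 : P ^ 3 = P := by rw [pow_succ, sq, hP, hP]
    have e4 := e2.mul_pow 3
    rw [e3] at e4
    rw [← e4, e1, cube_add h3, e3, Odd.neg_pow (by decide), h1]
    change _ = _
    simp only [mul_neg, neg_mul, mul_assoc, hP, hP']
  have e1 := key P Q hP hQ h1
  have e2 := key Q P hQ hP h2
  rw [show (Q - P) * (Q - P) = (P - Q) * (P - Q) by noncomm_ring] at e2
  have e3 : ((P - Q) * (P - Q)) ^ 4 = ((P - Q) * (P - Q)) ^ 2 := by
    rw [pow_succ, ← mul_assoc, mul_sub (_ ^ 3) P, e1, e2, ← mul_sub, mul_assoc, sq]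
  have sq1 : ∀ P : R, P * P = P → (1 + P) * (1 + P) = 1 := fun P hP => by
    rw [show (1 + P) * (1 + P) = 1 + 2 * P + P * P by noncomm_ring, hP,
      show 1 + 2 * P + P = 1 + 3 * P by noncomm_ring, h3, zero_mul, add_zero]
  have e4 : (P - Q) * (P - Q) = 2 - (1 + P) * (1 + Q) - (1 + Q) * (1 + P) := by
    rw [show (P - Q) * (P - Q) = P * P + Q * Q - P * Q - Q * P by noncomm_ring, hP, hQ,
      ← sub_zero (P + Q - P * Q - Q * P), ← zero_mul (P + Q), ← h3,
      ← one_add_one_eq_two (R := R)]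
    noncomm_ring
  have e5 : (1 + P) * (1 + Q) * ((1 + Q) * (1 + P)) = 1 := by
    rw [mul_assoc, ← mul_assoc (1 + Q), sq1 Q hQ, one_mul, sq1 P hP]
  have e6 : (1 + Q) * (1 + P) * ((1 + P) * (1 + Q)) = 1 := by
    rw [mul_assoc, ← mul_assoc (1 + P), sq1 P hP, one_mul, sq1 Q hQ]
  generalize (P - Q) * (P - Q) = S at e3 e4
  generalize (1 + P) * (1 + Q) = c at *
  generalize (1 + Q) * (1 + P) = c' at *
  have e7 : c * S = -(c - 1) ^ 2 := by
    rw [e4, mul_sub, mul_sub, e5]; noncomm_ring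
  have e8 : Commute c S := by
    change _ = _
    rw [e7, e4, sub_mul, sub_mul, e6]; noncomm_ring
  refine pow_thirtysix h3 ?_
  have e9 : (c * S) ^ 4 = c ^ 2 * (c * S) ^ 2 := by
    rw [e8.mul_pow, e8.mul_pow, e3, ← mul_assoc, ← pow_add]
  rwa [e7, Even.neg_pow (by decide), Even.neg_pow (by decide), ← pow_mul, ← pow_mul] at e9

/-- `a` and `b` commute or anticommute -/
def PM (a b : R) : Prop := a * b = b * a ∨ a * b = -(b * a)

theorem PM.mul_left {a b c : R} (h1 : PM a c) (h2 : PM b c) : PM (a * b) c := by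
  rcases h1 with h1 | h1 <;> rcases h2 with h2 | h2 <;> [left; right; right; left] <;>
    simp only [mul_assoc, h2, mul_neg] <;> simp only [← mul_assoc, h1, neg_mul, neg_neg]

theorem PM.symm {a b : R} (h : PM a b) : PM b a :=
  h.imp Eq.symm fun h => by rw [h, neg_neg]

theorem one_sub_sq (h3 : (3 : R) = 0) {d : R} (hd : d * d = 1) : (1 - d) * (1 - d) = -(1 - d) := by
  rw [show (1 - d) * (1 - d) = 1 - 2 * d + d * d by noncomm_ring, hd,
    ← sub_zero (1 - 2 * d + 1), ← zero_mul (1 - d), ← h3]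
  noncomm_ring

theorem proj_idem (h3 : (3 : R) = 0) {d u : R} (hd : d * d = 1) (hu : u * u = 1)
    (h : Commute d u) : (1 - d) * (1 - u) * ((1 - d) * (1 - u)) = (1 - d) * (1 - u) := by
  have : Commute (1 - u) (1 - d) := (Commute.one_left _).sub_left ((Commute.one_right _).sub_right h.symm)
  rw [this.mul_mul_mul_comm, one_sub_sq h3 hd, one_sub_sq h3 hu, neg_mul_neg]

theorem proj_cases {d u e : R} (hd : d * d = 1) (hu : u * u = 1) (h : Commute d u) (h1 : PM e d)
    (h2 : PM e u) : Commute e ((1 - d) * (1 - u)) ∨ (1 - d) * (1 - u) * e * ((1 - d) * (1 - u)) = 0 := by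
  have hc : Commute (1 - d) (1 - u) :=
    (Commute.one_left _).sub_left ((Commute.one_right _).sub_right h)
  have key : ∀ d u : R, d * d = 1 → e * d = -(d * e) → Commute (1 - d) (1 - u) →
      (1 - d) * (1 - u) * e * ((1 - d) * (1 - u)) = 0 := fun d u hd h1 hc => by
    have : (1 - d) * e * (1 - d) = 0 := by
      rw [mul_assoc, mul_sub e, h1, mul_one, sub_neg_eq_add, mul_add, sub_mul, sub_mul, ← mul_assoc d d,
        hd, one_mul, one_mul, sub_add_sub_cancel, sub_self]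
    calc _ = (1 - u) * ((1 - d) * e * (1 - d)) * (1 - u) := by
          nth_rewrite 1 [hc.eq]; simp only [mul_assoc]
      _ = 0 := by rw [this, mul_zero, zero_mul]
  rcases h1 with h1 | h1
  · rcases h2 with h2 | h2
    · exact Or.inl (((Commute.one_right _).sub_right h1).mul_right
        ((Commute.one_right _).sub_right h2))
    · exact Or.inr (hc.eq ▸ key u d hu h2 hc.symm)
  · exact Or.inr (key d u hd h1 hc)

theorem proj_cube (h3 : (3 : R) = 0) {P d u : R} (hP : P * P = P) (hd : d * d = 1) (hu : u * u = 1)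
    (h : Commute d u) (h1 : Commute d P ∨ P * d * P = 0) (h2 : Commute u P ∨ P * u * P = 0)
    (h4 : Commute (d * u) P ∨ P * (d * u) * P = 0) :
    (P * ((1 - d) * (1 - u)) * P) ^ 3 = P * ((1 - d) * (1 - u)) * P := by
  have key : ∀ W : R, Commute W P → W ^ 3 = W → P * ((1 - d) * (1 - u)) * P = P * W * P →
      (P * ((1 - d) * (1 - u)) * P) ^ 3 = P * ((1 - d) * (1 - u)) * P := fun W h1 h2 h4 => by
    rw [h4, ← h1.eq, mul_assoc, hP, h1.mul_pow, h2, pow_succ, sq, hP, hP]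
  have c1 : ∀ d : R, d * d = 1 → (1 - d) ^ 3 = 1 - d := fun d hd => by
    rw [pow_succ, sq, one_sub_sq h3 hd, neg_mul, one_sub_sq h3 hd, neg_neg]
  have ex : P * ((1 - d) * (1 - u)) * P = P * 1 * P - P * d * P - P * u * P + P * (d * u) * P := by
    noncomm_ring
  rcases h1 with h1 | h1 <;> rcases h2 with h2 | h2
  · refine key _ (((Commute.one_left _).sub_left h1).mul_left ((Commute.one_left _).sub_left h2))
      ?_ rfl
    rw [pow_succ, sq, proj_idem h3 hd hu h, proj_idem h3 hd hu h]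
  · refine key (1 - d) ((Commute.one_left _).sub_left h1) (c1 d hd) ?_
    rw [ex, ← mul_assoc P d u, show P * d * u = d * (P * u) by rw [← h1.eq, mul_assoc],
      mul_assoc d _ P, h2]
    noncomm_ring
  · refine key (1 - u) ((Commute.one_left _).sub_left h2) (c1 u hu) ?_
    rw [ex, h.eq, ← mul_assoc P u d, show P * u * d = u * (P * d) by rw [← h2.eq, mul_assoc],
      mul_assoc u _ P, h1]
    noncomm_ring
  · rcases h4 with h4 | h4
    · refine key (1 - -(d * u)) ((Commute.one_left _).sub_left h4.neg_left) (c1 _ ?_) ?_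
      · rw [neg_mul_neg, h.symm.mul_mul_mul_comm, hd, hu, one_mul]
      · rw [ex, h1, h2]; noncomm_ring
    · refine key 1 (Commute.one_left _) (one_pow 3) ?_
      rw [ex, h1, h2, h4]; noncomm_ring

theorem sympl_refl_pow (h3 : (3 : R) = 0) {d u d' u' : R} (hd : d * d = 1) (hu : u * u = 1)
    (h : Commute d u) (hd' : d' * d' = 1) (hu' : u' * u' = 1) (h' : Commute d' u')
    (p1 : PM d d') (p2 : PM d u') (p3 : PM u d') (p4 : PM u u') :
    ((1 + (1 - d) * (1 - u)) * (1 + (1 - d') * (1 - u'))) ^ 36 = 1 :=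
  refl_pow h3 (proj_idem h3 hd hu h) (proj_idem h3 hd' hu' h')
    (proj_cube h3 (proj_idem h3 hd hu h) hd' hu' h' (proj_cases hd hu h p1.symm p3.symm)
      (proj_cases hd hu h p2.symm p4.symm)
      (proj_cases hd hu h (p1.symm.mul_left p2.symm) (p3.symm.mul_left p4.symm)))
    (proj_cube h3 (proj_idem h3 hd' hu' h') hd hu h (proj_cases hd' hu' h' p1 p2)
      (proj_cases hd' hu' h' p3 p4) (proj_cases hd' hu' h' (p1.mul_left p3) (p2.mul_left p4)))

theorem mem_pCore_two {G : Type*} [Group G] [Finite G] (h3 : ¬ 3 ∣ Nat.card G) {g : G}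
    (hg : g * g = 1) (h : ∀ x : G, (g * (x * g * x⁻¹)) ^ 36 = 1) : g ∈ pCore 2 G := by
  have hz : ∀ y : G, y ^ 36 = 1 → IsPGroup 2 (zpowers y) := fun y hy => by
    have h4 : y ^ 2 ^ 2 = 1 := orderOf_dvd_iff_pow_eq_one.1
      (Nat.Coprime.dvd_of_dvd_mul_right (k := orderOf y) (n := 3 ^ 2) (Nat.Coprime.pow_right 2
        ((Nat.Prime.coprime_iff_not_dvd Nat.prime_three).2 fun e =>
          h3 (e.trans (orderOf_dvd_natCard y))).symm) (orderOf_dvd_of_pow_eq_one hy))
    rintro ⟨_, n, rfl⟩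
    refine ⟨2, Subtype.ext ?_⟩
    change (y ^ n) ^ 2 ^ 2 = 1
    rw [← zpow_natCast, ← zpow_mul, mul_comm, zpow_mul, zpow_natCast, h4, one_zpow]
  refine mem_pCore_of_forall_conj fun x => ⟨zpowers g ⊔ zpowers (g * (x * g * x⁻¹)),
    (hz g (by rw [show 36 = 2 * 18 from rfl, pow_mul, sq, hg, one_pow])).to_sup_of_normal_right'
      (hz _ (h x)) ?_, mem_sup_left (mem_zpowers g), ?_⟩
  · rw [zpowers_le]
    refine mem_normalizer_fintype ?_
    rintro _ ⟨n, rfl⟩
    have i1 : g⁻¹ = g := inv_eq_of_mul_eq_one_right hg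
    have e : g * (g * (x * g * x⁻¹)) * g⁻¹ = (g * (x * g * x⁻¹))⁻¹ := by
      rw [← mul_assoc g g, hg, one_mul, mul_inv_rev, mul_inv_rev, mul_inv_rev, inv_inv, i1,
        mul_assoc x]
    change g * (g * (x * g * x⁻¹)) ^ n * g⁻¹ ∈ zpowers _
    rw [← conj_zpow, e]
    exact zpow_mem (inv_mem (mem_zpowers _)) n
  · have := mul_mem (mem_sup_left (T := zpowers (g * (x * g * x⁻¹))) (mem_zpowers g))
      (mem_sup_right (mem_zpowers (g * (x * g * x⁻¹))))
    rwa [← mul_assoc g g, hg, one_mul] at this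

end Cfsg.Bs

set_option linter.all false in
theorem Cfsg.Rz.Bs_Ring3_0 : True := by
  have := @_root_.Cfsg.Bs.PM.eq_def.{0}
  have := @_root_.Cfsg.Bs.PM.eq_1.{0}
  have := @_root_.Cfsg.Bs.PM.fun_cases
  trivial
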