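import Cfsg.Agent.Bs.Sub
import Cfsg.Agent.Bs.Ring3

/-! # The case `p = 3`, `r = 2` -/

set_option autoImplicit false
set_option linter.unusedSectionVars false

namespace Cfsg.Bs

open Subgroup
open scoped commutatorElement IsMulCommutative

variable {G V : Type*} [Group G] [Finite G] [AddCommGroup V]
  [Module (ZMod 3) V] [DistribMulAction G V] {E D A : Subgroup G} {x y : V}

namespace Frame

theorem eq_one_of_transvection [IsCyclic (center G)] (F : Frame 2 E D A) (h : Ctx 3 G V)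
    (hZ : Semireg (center G) V) {g : G} (h0 : ∀ w : V, (∀ d ∈ D, d • w = w) → g • w = w)
    {γ : A →* A} (hγ : Function.Injective γ) (hc : ∀ τ : A, g * τ * g⁻¹ = γ τ)
    (hi : haveI := F.isMulCommutative; (fx γ).index ≤ 2) : g = 1 := by
  haveI := F.isMulCommutative
  haveI := Fintype.ofFinite A
  have hg : ∀ (τ : A) (w : V), (∀ d ∈ D, d • w = w) → g • (τ : G) • w = (γ τ : G) • w :=
    fun τ w hw => by rw [← hc, mul_smul, mul_smul, inv_smul_eq_iff.2 (h0 w hw).symm]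
  have h2 : ∀ a : A, a ^ 2 = 1 := fun a => Subtype.ext (F.exp a a.2)
  obtain ⟨u, hu, hu1, hγu⟩ := exists_transvection h2 hγ hi
  by_cases hid : γ = MonoidHom.id A
  · exact h.faithful g (F.smul_eq h.cop hZ fun τ hτ w hw => by simpa [hid] using hg ⟨τ, hτ⟩ w hw)
  exfalso
  obtain ⟨b, hb⟩ : ∃ b, b ∉ fx γ := by
    by_contra H
    push Not at H
    exact hid (MonoidHom.ext H)
  obtain ⟨d, hd, hn⟩ := F.exists_not_commute (H := (fx γ).map A.subtype) (map_subtype_le _) b.2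
    (by simpa using hb)
  have d1 : ∀ a ∈ fx γ, Commute d (a : G) := fun a ha => (hd.2 a (mem_map_of_mem _ ha)).symm
  have d2 : ∀ a ∉ fx γ, ¬ Commute d (a : G) := fun a ha e => hn (by
    have : a * b ∈ fx γ := by
      rw [mem_fx, map_mul, hγu a ha, hγu b hb, mul_mul_mul_comm, ← sq, h2, one_mul]
    simpa using e.inv_right.mul_right (d1 _ this))
  have dE := F.DE hd.1
  have uE := F.AE u.2
  have dd : d * d = 1 := by rw [← sq]; exact F.DZ _ (pow_mem hd.1 2) (F.sym.pow d dE)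
  have uu : (u : G) * u = 1 := by rw [← sq]; exact F.exp _ u.2
  let ρ := DistribMulAction.toAddMonoidEnd G V
  have hρ : ∀ (a : G) (v : V), ρ a v = a • v := fun _ _ => rfl
  have v3 : ∀ v : V, v + v + v = 0 := fun v => by
    have : (3 : ZMod 3) • v = 0 := by rw [show (3 : ZMod 3) = 0 from rfl, zero_smul]
    rwa [show (3 : ZMod 3) = 1 + 1 + 1 from rfl, add_smul, add_smul, one_smul] at this
  have h3 : (3 : AddMonoid.End V) = 0 := by
    ext v
    rw [show (3 : AddMonoid.End V) = 1 + 1 + 1 by norm_num]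
    exact v3 v
  have e1 : ρ g = 1 + (1 - ρ d) * (1 - ρ u) := by
    ext v
    rw [← F.sum_comp h.cop hZ v, map_sum, map_sum]
    refine Finset.sum_congr rfl fun τ _ => ?_
    have hw := fun d hd => smul_av_of_mem (p := 3) (D := D) (d := d) hd ((τ : G)⁻¹ • v)
    generalize av 3 D ((τ : G)⁻¹ • v) = w at hw
    change g • (τ : G) • w = (τ : G) • w + (((τ : G) • w - (u : G) • (τ : G) • w) -
      d • ((τ : G) • w - (u : G) • (τ : G) • w))
    rw [hg τ w hw, smul_sub, smul_smul d u, (d1 u hu).eq, mul_smul]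
    by_cases hτ : τ ∈ fx γ
    · rw [mem_fx.1 hτ, smul_smul d, (d1 τ hτ).eq, mul_smul, hw d hd.1, sub_self, add_zero]
    · rw [hγu τ hτ, F.sym.anti hZ dE (F.AE τ.2) (d2 τ hτ), hw d hd.1, coe_mul, mul_smul, smul_neg,
        ← sub_eq_zero, ← neg_eq_zero, ← v3 ((τ : G) • w - (u : G) • (τ : G) • w)]
      abel
  have inj : ∀ a : G, ρ a = 1 → a = 1 := fun a e => h.faithful a fun v => by rw [← hρ, e]; rfl
  have pm : ∀ a ∈ E, ∀ b ∈ E, PM (ρ a) (ρ b) := fun a ha b hb => by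
    by_cases e : Commute a b
    · exact Or.inl (e.map ρ)
    · exact Or.inr (AddMonoidHom.ext fun v => F.sym.anti hZ ha hb e v)
  have cj : ∀ t a : G, a * a = 1 → ρ (t * a * t⁻¹) * ρ (t * a * t⁻¹) = 1 := fun t a e => by
    rw [← map_mul, ← sq, conj_pow, sq, e]; simp
  have hO : g ∈ pCore 2 G := mem_pCore_two h.cop (inj _ (by
      have := proj_idem h3 (by rw [← map_mul, dd, map_one]) (by rw [← map_mul, uu, map_one])
        ((d1 u hu).map ρ)
      rw [map_mul, e1]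
      generalize (1 - ρ d) * (1 - ρ u) = P at this
      rw [show (1 + P) * (1 + P) = 1 + 2 * P + P * P by noncomm_ring, this,
        show 1 + 2 * P + P = 1 + 3 * P by noncomm_ring, h3, zero_mul, add_zero])) fun t => inj _ (by
    have e2 : ρ (t * g * t⁻¹) = 1 + (1 - ρ (t * d * t⁻¹)) * (1 - ρ (t * u * t⁻¹)) := by
      have e3 : ρ t * ρ t⁻¹ = 1 := by rw [← map_mul, mul_inv_cancel, map_one]
      have e4 : ∀ s, ρ t⁻¹ * (ρ t * s) = s := fun s => by
        rw [← mul_assoc, ← map_mul, inv_mul_cancel, map_one, one_mul]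
      simp only [map_mul, e1, mul_add, add_mul, mul_sub, sub_mul, mul_one, one_mul, mul_assoc, e3, e4]
    have dE' := F.sym.normal.conj_mem d dE t
    have uE' := F.sym.normal.conj_mem _ uE t
    rw [map_pow, map_mul, e2, e1]
    exact sympl_refl_pow h3 (by rw [← map_mul, dd, map_one]) (by rw [← map_mul, uu, map_one])
      ((d1 u hu).map ρ) (cj t d dd) (cj t u uu) (((d1 u hu).map (MulAut.conj t)).map ρ)
      (pm _ dE _ dE') (pm _ dE _ uE') (pm _ uE _ dE') (pm _ uE _ uE'))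
  have := F.sym.core g hO b (F.AE b.2)
  rw [commutatorElement_def, hc, hγu b hb, coe_mul, mul_inv_cancel_right] at this
  exact hu1 hid (Subtype.ext (F.disj _ u.2 (center_le_centralizer _ this)))

theorem base_of_p3 [IsCyclic (center G)] (F : Frame 2 E D A) (h : Ctx 3 G V)
    (hZ : Semireg (center G) V) (hs : Start E D x y) (h0 : x ≠ 0) (y0 : y ≠ 0)
    (regy : ∀ e ∈ E, e • y = y → e ∈ D) : HasBase G V := by
  classical
  haveI := F.isMulCommutative
  haveI := Fintype.ofFinite A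
  have h2 : ∀ a : A, a ^ 2 = 1 := fun a => Subtype.ext (F.exp a a.2)
  obtain ⟨H, Y, Y1, Yc, htr, hcl, -, hix⟩ := exists_col3 h2
  let w₁ : A → V := fun τ => if τ = 1 then y else if τ ∈ H ∧ τ ∉ Y then x else 0
  let w₂ : A → V := fun τ => if τ = 1 then x else if τ ∉ H ∧ τ ∉ Y then x else 0
  have f₁ : ∀ τ, ∀ d ∈ D, d • w₁ τ = w₁ τ := fun τ d hd => by
    simp only [w₁]; split_ifs; exacts [hs.fy d hd, hs.fx d hd, smul_zero _]
  have f₂ : ∀ τ, ∀ d ∈ D, d • w₂ τ = w₂ τ := fun τ d hd => by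
    simp only [w₂]; split_ifs; exacts [hs.fx d hd, hs.fx d hd, smul_zero _]
  have z₁ : ∀ τ, w₁ τ ≠ 0 ↔ τ ∈ H ∧ τ ∉ Y := fun τ => by
    simp only [w₁]; split_ifs with a b
    · exact iff_of_true y0 (a ▸ ⟨one_mem _, Y1⟩)
    · exact iff_of_true h0 b
    · exact iff_of_false (fun e => e rfl) b
  have z₂ : ∀ τ ∉ H, τ ∉ Y → w₂ τ = x := fun τ a b => by
    rw [show w₂ τ = _ from if_neg fun e : τ = 1 => a (e ▸ one_mem H), if_pos ⟨a, b⟩]
  have x₁ : ∀ τ, τ ≠ 1 → w₁ τ ≠ 0 → w₁ τ = x := fun τ a b => by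
    rw [show w₁ τ = _ from if_neg a, if_pos ((z₁ τ).1 b)]
  have x₂ : ∀ τ, w₂ τ ≠ 0 → w₂ τ = x := fun τ => by
    simp only [w₂]; split_ifs <;> simp
  set X := ∑ τ : A, (τ : G) • w₁ τ with hX
  set X' := ∑ τ : A, (τ : G) • w₂ τ with hX'
  have hH : H.map A.subtype ≤ A := map_subtype_le _
  set D' := D ⊓ centralizer (H.map A.subtype : Set G) with hD'
  have s1 : ∀ d ∈ D', d • X = X := fun d hd => by
    rw [hX, Finset.smul_sum]
    refine Finset.sum_congr rfl fun τ _ => ?_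
    by_cases e : w₁ τ = 0
    · simp [e]
    · rw [smul_smul, ← hd.2 τ (mem_map_of_mem _ ((z₁ τ).1 e).1), mul_smul, f₁ τ d hd.1]
  have s2 : ∀ e ∈ E, e • X = X → e ∈ D' := fun e he hx => by
    obtain ⟨a, ha, c, hc, rfl⟩ := F.span e he
    have cj : ∀ τ : A, (τ : G)⁻¹ * c * (τ : G)⁻¹⁻¹ ∈ E ⊓ centralizer (D : Set G) := fun τ =>
      (mem_normalizer_iff.1 (F.sym.le_normalizer (inv_mem (F.AE τ.2))) c).1 hc
    have key : ∀ τ : A, w₁ (⟨a, ha⟩ * τ) = ((τ : G)⁻¹ * c * (τ : G)⁻¹⁻¹) • w₁ τ := fun τ => by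
      rw [← F.comp_sum h.cop hZ f₁ τ, ← F.comp_sum h.cop hZ f₁ (_ * τ),
        ← av_smul (centralizer_le_normalizer _ (cj τ).2), ← hX]
      conv_lhs => rw [← hx]
      simp [mul_smul]
    have a1 := htr ⟨a, ha⟩ fun τ a b => (z₁ _).1 (by
      rw [key, Ne, smul_eq_zero_iff_eq]; exact (z₁ τ).2 ⟨a, b⟩)
    rw [a1] at key
    rw [show a = 1 from congrArg Subtype.val a1, one_mul]
    have cD : c ∈ D := regy c hc.1 (by simpa [w₁] using (key 1).symm)
    have : H ≤ (centralizer {c}).comap A.subtype := by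
      rw [← hcl, closure_le]
      rintro τ ⟨t1, t2, t3⟩
      have e := key τ
      rw [one_mul, x₁ τ t3 ((z₁ τ).2 ⟨t1, t2⟩)] at e
      have := F.DZ ⁅(τ : G)⁻¹, c⁆ (mul_mem (hs.reg _ (cj τ).1 e.symm) (inv_mem cD))
        (F.sym.comm _ (inv_mem (F.AE τ.2)) _ hc.1)
      exact mem_centralizer_singleton_iff.2
        (by simpa using (commutatorElement_eq_one_iff_commute.1 this).inv_left.eq)
    refine ⟨cD, ?_⟩
    rintro _ ⟨τ, hτ, rfl⟩
    exact mem_centralizer_singleton_iff.1 (this hτ)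
  have s3 : av 3 D' X' = x := by
    rw [hX', map_sum, Finset.sum_eq_single 1 (fun τ _ hτ => ?_) (by simp)]
    · simpa [w₂] using av_of_fix (D := D') h.cop fun d hd => hs.fx d hd.1
    · by_cases e : τ ∈ H
      · simp [w₂, hτ, e]
      · obtain ⟨d, hd, hn⟩ := F.exists_not_commute hH τ.2 (by simpa using e)
        exact av_eq_zero hZ hd (F.sym.comm _ (F.DE hd.1) _ (F.AE τ.2)) hn (f₂ τ d hd.1)
  have main : ∀ g : G, g • X = X → g • X' = X' → (orderOf g).Prime → g = 1 := by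
    intro g hx hy hl
    have hg' := mem_normalizer_of_fix F.sym.normal (inf_le_left.trans F.DE) s1 s2 hx
    have gx : g • x = x := by rw [← s3, ← av_smul hg', hy]
    have hg := mem_normalizer_of_fix F.sym.normal F.DE hs.fx hs.reg gx
    obtain ⟨γ, hγ, ha⟩ := F.exists_gamma hg
    have k₁ : ∀ τ, w₁ (γ τ) = ((γ τ : G)⁻¹ * (g * τ * g⁻¹)) • g • w₁ τ := fun τ => by
      rw [← F.comp_sum h.cop hZ f₁ τ, ← comp_smul hg (ha τ), ← hX, hx, hX, F.comp_sum h.cop hZ f₁]
    have k₂ : ∀ τ, w₂ (γ τ) = ((γ τ : G)⁻¹ * (g * τ * g⁻¹)) • g • w₂ τ := fun τ => by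
      rw [← F.comp_sum h.cop hZ f₂ τ, ← comp_smul hg (ha τ), ← hX', hy, hX', F.comp_sum h.cop hZ f₂]
    have g0 := hs.base g hg gx (by simpa [w₁] using (k₁ 1).symm)
    simp only [g0 _ (f₁ _)] at k₁
    simp only [g0 _ (f₂ _)] at k₂
    have hc := F.conj_eq (g := g) hγ Yc fun τ hτ => by
      by_cases t1 : τ = 1
      · simp [t1]
      refine hs.reg _ (ha τ).1 ?_
      by_cases t2 : τ ∈ H
      · have e := k₁ τ
        rw [x₁ τ t1 ((z₁ τ).2 ⟨t2, hτ⟩)] at e
        rw [← e, x₁ _ ((map_eq_one_iff γ hγ).not.2 t1) (by rwa [e, Ne, smul_eq_zero_iff_eq])]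
      · have e := k₂ τ
        rw [z₂ τ t2 hτ] at e
        rw [← e, x₂ _ (by rwa [e, Ne, smul_eq_zero_iff_eq])]
    refine F.eq_one_of_transvection h hZ g0 hγ hc (hix γ _ hl
      (fun e => h.cop (e ▸ orderOf_dvd_natCard g)) (funext fun τ => ?_) (fun τ hτ => ?_)
      fun τ hτ => ?_)
    · have : ∀ n, ((γ^[n] τ : A) : G) = g ^ n * τ * (g ^ n)⁻¹ := fun n => by
        induction n with
        | zero => simp
        | succ n ih => rw [Function.iterate_succ_apply', ← hc, ih, pow_succ']; group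
      exact Subtype.ext (by rw [this, pow_orderOf_eq_one]; simp)
    · obtain ⟨_, ⟨k, hk, rfl⟩, c, hc', e⟩ := F.exists_mul_of_cent hH (conj_mem_cent F.sym.normal hg'
        (c := τ) ⟨F.AE τ.2, fun d hd => (hd.2 τ (mem_map_of_mem _ hτ)).symm⟩)
      rw [hc, coe_subtype] at e
      rw [F.disj c (by simpa [e] using mul_mem (inv_mem k.2) (γ τ).2) hc'.2, mul_one] at e
      exact Subtype.ext e ▸ hk
    · by_contra hn
      have t1 : τ ≠ 1 := ne_of_mem_of_not_mem hτ Y1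
      by_cases t2 : γ τ ∈ H
      · exact (z₁ _).2 ⟨t2, hn⟩ (by rw [k₁]; simp [w₁, t1, hτ])
      · exact h0 (by rw [← z₂ _ t2 hn, k₂]; simp [w₂, t1, hτ])
  refine ⟨X, X', fun g hx hy => ?_⟩
  by_contra g1
  obtain ⟨l, hl, hd⟩ := Nat.exists_prime_and_dvd (orderOf_eq_one_iff.not.2 g1)
  have ho := orderOf_pow_orderOf_div (orderOf_pos g).ne' hd
  have := main (g ^ (orderOf g / l)) (pow_mem (S := MulAction.stabilizer G X) hx _)
    (pow_mem (S := MulAction.stabilizer G X') hy _) (ho.symm ▸ hl)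
  rw [this, orderOf_one] at ho
  exact hl.one_lt.ne ho

end Frame

end Cfsg.Bs
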