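import Cfsg.Agent.Bs.Five
import Cfsg.Agent.Bs.Three
import Cfsg.Agent.Bs.Quat
import Cfsg.Agent.Grp.FpfEnd

/-! # Base size two in the presence of a normal subgroup of symplectic type -/

set_option autoImplicit false
set_option linter.unusedSectionVars false

namespace Cfsg.Bs

open Subgroup
open scoped commutatorElement

variable {p : ℕ} [Fact p.Prime] {G V : Type*} [Group G] [Finite G] [AddCommGroup V]
  [Module (ZMod p) V] [Finite V] [DistribMulAction G V]

theorem Ctx.base_of_sym (h : Ctx p G V) {r : ℕ} {E : Subgroup G} (hE : Sym r E)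
    (hZ : Semireg (center G) V) [IsCyclic (center G)] : HasBase G V := by
  obtain ⟨a, ha, b, hb, hab⟩ : ∃ a ∈ E, ∃ b ∈ E, ¬ Commute a b := by
    by_contra H
    push Not at H
    exact hE.noncent fun a ha => hE.cent a ha (H a ha)
  obtain ⟨v₀, hv₀⟩ : ∃ v : V, v ≠ 0 := by
    by_contra H
    push Not at H
    exact hab (h.faithful a (fun v => by rw [H v, smul_zero]) ▸ Commute.one_left b)
  obtain ⟨_, ⟨x₀, h0, rfl⟩, hm⟩ := Set.Finite.exists_maximal (Set.toFinite
    {D : Subgroup G | ∃ v : V, v ≠ 0 ∧ E ⊓ MulAction.stabilizer G v = D}) ⟨_, v₀, hv₀, rfl⟩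
  set D := E ⊓ MulAction.stabilizer G x₀ with hD
  have hmax : ∀ v : V, v ≠ 0 → (∀ d ∈ D, d • v = v) → ∀ e ∈ E, e • v = v → e ∈ D :=
    fun v hv hd e he h1 => hm ⟨v, hv, rfl⟩ (fun d h => ⟨h.1, hd d h⟩) ⟨he, h1⟩
  obtain ⟨A, F⟩ := hE.exists_frame (D := D) inf_le_left fun d hd hz =>
    (hZ d hz x₀ hd.2).resolve_right h0
  by_cases hD0 : D = ⊥
  · have hs : Semireg E V := fun u hu v hv => or_iff_not_imp_right.2 fun h0 => by
      simpa [hD0] using hmax v h0 (by simp [hD0]) u hu hv
    by_cases r2 : r = 2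
    · subst r2
      exact h.base_of_quaternion hE hs
    exfalso
    let ρ := DistribMulAction.toAddMonoidEnd G V
    have hz := hE.comm a ha b hb
    have zr := hE.cm_pow_eq_one ha hb
    have z1 := commutatorElement_eq_one_iff_commute.not.2 hab
    have := FpfEnd.fix_of_fpf_pair hE.prime (α := ρ a) (β := ρ ⁅a, b⁆)
      (Commute.map (mem_center_iff.1 hz a) ρ)
      (by rw [← map_pow, show a ^ r = 1 by simpa [r2] using hE.exp a ha, map_one])
      (by rw [← map_pow, zr, map_one]) (fun j v hv => by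
        rw [← map_pow, ← map_mul] at hv
        refine (hs _ (mul_mem ha (pow_mem (hE.full _ hz (by simpa [r2] using zr)) j)) v
          hv).resolve_left fun e => hab ?_
        rw [eq_inv_of_mul_eq_one_left e]
        exact (Commute.symm (mem_center_iff.1 (pow_mem hz j) b)).inv_left) v₀
    rw [← map_nsmul] at this
    have h1 := (hZ _ hz _ this).resolve_left z1
    rw [← Nat.cast_smul_eq_nsmul (ZMod p), smul_eq_zero, ZMod.natCast_eq_zero_iff] at h1
    haveI := Fact.mk hE.prime
    exact h.cop ((h1.resolve_right hv₀).trans (orderOf_eq_prime zr z1 ▸ orderOf_dvd_natCard _))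
  let W : Submodule (ZMod p) V :=
    { carrier := {v | ∀ d ∈ D, d • v = v}
      add_mem' := fun h1 h2 d hd => by rw [smul_add, h1 d hd, h2 d hd]
      zero_mem' := fun d _ => smul_zero d
      smul_mem' := fun c v h1 d hd => by rw [smul_zmod, h1 d hd] }
  obtain ⟨x, hx, y, hy, x0, y0, hb⟩ := h.ih (normalizer (D : Set G)) W
    (fun e => hD0 (eq_bot_iff.2 fun d hd => h.faithful d fun v => (e ▸ Submodule.mem_top : v ∈ W) d hd))
    (fun e => h0 ((Submodule.eq_bot_iff W).1 e x₀ fun d hd => hd.2)) fun g hg w hw d hd => by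
      have := hw _ ((mem_normalizer_iff.1 (inv_mem hg) d).1 hd)
      rwa [inv_inv, mul_smul, mul_smul, inv_smul_eq_iff] at this
  have hs : Start E D x y := ⟨hx, hy, hmax x x0 hx, hb⟩
  by_cases r2 : r = 2
  swap
  · exact F.base_of_odd h hZ hs r2 x0
  subst r2
  by_cases p3 : p = 3
  · subst p3
    exact F.base_of_p3 h hZ hs x0 y0 (hmax y y0 hy)
  by_cases p5 : p = 5
  · subst p5
    by_cases hn : ∀ w : V, (∀ d ∈ D, d • w = w) → ∃ l : ZMod 5, w = l • x
    · exact F.base_of_five_b h hZ hs x0 hn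
    · push Not at hn
      obtain ⟨v, hv, hn⟩ := hn
      exact F.base_of_five_a h hZ hs x0 hmax hv hn
  exact F.base_of_seven h hZ hs p3 p5 x0

end Cfsg.Bs
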