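import Cfsg.Agent.Bs.Blocks

/-! # Subframes and signs -/

set_option autoImplicit false
set_option linter.unusedSectionVars false

namespace Cfsg.Bs

open Subgroup
open scoped commutatorElement

variable {p : ℕ} [Fact p.Prime] {G V : Type*} [Group G] [Finite G] [AddCommGroup V]
  [Module (ZMod p) V] [DistribMulAction G V] {r : ℕ} {E D A : Subgroup G}

theorem Ctx.exists_scal (h : Ctx p G V) {c : ZMod p} (hc : c ≠ 0) :
    ∃ z ∈ center G, ∀ v : V, z • v = c • v := by
  obtain ⟨z, hz⟩ := h.scal c hc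
  refine ⟨z, mem_center_iff.2 fun g => inv_mul_eq_one.1 (h.faithful _ fun v => ?_), hz⟩
  rw [mul_smul, inv_smul_eq_iff, mul_smul, mul_smul, hz, hz, smul_zmod]

theorem Semireg.neg (hZ : Semireg (center G) V) {z : G} (hz : z ∈ center G) (h2 : z ^ 2 = 1)
    (h1 : z ≠ 1) (v : V) : z • v = -v :=
  eq_neg_of_add_eq_zero_left ((hZ z hz (z • v + v) (by
    rw [smul_add, smul_smul, ← sq, h2, one_smul, add_comm])).resolve_left h1)

theorem Sym.anti (hE : Sym 2 E) (hZ : Semireg (center G) V) {a b : G} (ha : a ∈ E) (hb : b ∈ E)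
    (hn : ¬ Commute a b) (v : V) : a • b • v = -(b • a • v) := by
  rw [← hZ.neg (hE.comm a ha b hb) (hE.cm_pow_eq_one ha hb)
    (commutatorElement_eq_one_iff_commute.not.2 hn)]
  simp [commutatorElement_def, mul_smul]

theorem Sym.mem_cent_of_fix (hE : Sym r E) (hZ : Semireg (center G) V) (hD : D ≤ E) {x : V}
    (h0 : x ≠ 0) (hx : ∀ d ∈ D, d • x = x) {e : G} (he : e ∈ E) (h : e • x = x) :
    e ∈ E ⊓ centralizer (D : Set G) := by
  refine ⟨he, fun d hd => ?_⟩
  by_contra hn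
  refine h0 (hZ.eq_zero (hE.comm d (hD hd) e he) hn ?_)
  rw [commutatorElement_def, mul_smul, mul_smul, mul_smul, inv_smul_eq_iff.2 h.symm,
    inv_smul_eq_iff.2 (hx d hd).symm, h, hx d hd]

theorem mem_closure_pair_invol {a b k : G} (ha : a * a = 1) (hb : b * b = 1) (hab : b * a = a * b)
    (hk : k ∈ closure {a, b}) : k = 1 ∨ k = a ∨ k = b ∨ k = a * b := by
  have h1 : ∀ c, a * (a * c) = c := fun c => by rw [← mul_assoc, ha, one_mul]
  have h2 : b * (a * b) = a := by rw [← mul_assoc, hab, mul_assoc, hb, mul_one]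
  have key : ∀ x ∈ ({a, b} : Set G), ∀ y, (y = 1 ∨ y = a ∨ y = b ∨ y = a * b) →
      (x * y = 1 ∨ x * y = a ∨ x * y = b ∨ x * y = a * b) := by
    rintro _ (rfl | rfl) _ (rfl | rfl | rfl | rfl) <;> simp [*]
  induction hk using closure_induction_left with
  | one => exact Or.inl rfl
  | mul_left x hx y _ ih => exact key x hx y ih
  | inv_mul_cancel x hx y _ ih =>
    have : x⁻¹ = x := by
      rcases hx with rfl | rfl <;> exact inv_eq_of_mul_eq_one_right ‹_›
    rw [this]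
    exact key x hx y ih

namespace Frame

theorem av_ne (F : Frame r E D A) (hZ : Semireg (center G) V) {τ : G} (hτ : τ ∈ A) (h1 : τ ≠ 1)
    {w : V} (hw : ∀ d ∈ D, d • w = w) : av p D (τ • w) = 0 := by
  obtain ⟨d, hd, hn⟩ : ∃ d ∈ D, ¬ Commute d τ := by
    by_contra H
    push Not at H
    exact h1 (F.disj _ hτ H)
  exact av_eq_zero hZ hd (F.sym.comm _ (F.DE hd) _ (F.AE hτ)) hn (hw d hd)

variable [IsCyclic (center G)] {H : Subgroup G}

theorem exists_mul_of_cent (F : Frame r E D A) (hH : H ≤ A) {e : G}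
    (he : e ∈ E ⊓ centralizer ((D ⊓ centralizer (H : Set G) : Subgroup G) : Set G)) :
    ∃ k ∈ H, ∃ c ∈ E ⊓ centralizer (D : Set G), e = k * c := by
  by_contra hn
  push Not at hn
  obtain ⟨d, hd, h1, h2⟩ := F.sym.sep F.DE (hH.trans F.AE) he.1 hn
  exact h2 (he.2 d ⟨hd, fun s hs => (h1 s hs).symm⟩)

theorem exists_not_commute (F : Frame r E D A) (hH : H ≤ A) {τ : G} (hτ : τ ∈ A) (hn : τ ∉ H) :
    ∃ d ∈ D ⊓ centralizer (H : Set G), ¬ Commute d τ := by
  by_contra H'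
  push Not at H'
  obtain ⟨k, hk, c, hc, rfl⟩ := F.exists_mul_of_cent hH ⟨F.AE hτ, H'⟩
  rw [F.disj c (by simpa using mul_mem (inv_mem (hH hk)) hτ) hc.2, mul_one] at hn
  exact hn hk

theorem comp_eq_zero (F : Frame r E D A) (hZ : Semireg (center G) V) (hH : H ≤ A) {τ : G}
    (hτ : τ ∈ A) (hn : τ ∉ H) {v : V} (hv : ∀ d ∈ D ⊓ centralizer (H : Set G), d • v = v) :
    av p D (τ⁻¹ • v) = 0 := by
  obtain ⟨d, hd, h⟩ := F.exists_not_commute hH hτ hn
  exact av_eq_zero hZ hd.1 (F.sym.comm _ (F.DE hd.1) _ (F.AE (inv_mem hτ)))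
    (fun e => h (by simpa using e)) (hv d hd)

end Frame

end Cfsg.Bs
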